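import Mathlib
import Cfsg.Agent.ClassicalGeometry.OmegaIndex
import Cfsg.Agent.LieClassical.OrthFinite

/-!
# `E Q` is the kernel of the determinant and of the spinor sign (helper17)

`Q` a quadratic form on `ι → F`, `F` finite of odd characteristic.

* `sg Q : O Q →* ℤˣ` the spinor sign; `sg_refl`, `det_refl`;
* `mem_E_iff : g ∈ E Q ↔ det g = 1 ∧ sg g = 1` for `Good Q`.
-/

set_option autoImplicit false

namespace Cfsg.Agent.FooteOrth

open QuadraticMap
open Cfsg.Agent.LieClassical Cfsg.Agent.LieClassical.OrthCore Cfsg.Agent.LieClassical.OrthTrans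
  Cfsg.Agent.LieClassical.OrthFinite Cfsg.Agent.ClassicalGeometry.SpinorSign
  Cfsg.Agent.ClassicalGeometry.OmegaIndex

variable {ι : Type} [Fintype ι] [DecidableEq ι] {F : Type*} [Field F]

/-- the matrix of a reflection -/
theorem isometryEquiv_reflIso (Q : QuadraticForm F (ι → F)) (v : ι → F) (hv : Q v ≠ 0) :
    isometryEquiv Q (Cfsg.Agent.ClassicalGeometry.Reflection.reflIso Q v hv) = ⟨refl Q v hv, refl_mem_O hv⟩ := by
  apply Subtype.ext
  ext1 x
  rw [isometryEquiv_apply, Cfsg.Agent.ClassicalGeometry.Reflection.coe_reflIso,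
    Cfsg.Agent.ClassicalGeometry.Reflection.reflectionMatrix_mulVec]
  exact (refl_apply hv x).symm

/-- the determinant of the linear map of a matrix -/
theorem det_isometryEquiv (Q : QuadraticForm F (ι → F)) (g : Cfsg.isometryGroup F ⇑Q) :
    ((LinearEquiv.det (isometryEquiv Q g : (ι → F) ≃ₗ[F] (ι → F)) : Fˣ) : F) =
      ((g : Matrix.GeneralLinearGroup ι F) : Matrix ι ι F).det := by
  rw [LinearEquiv.coe_det, ← LinearMap.det_toLin']
  rfl

theorem det_refl {Q : QuadraticForm F (ι → F)} {v : ι → F} (hv : Q v ≠ 0) :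
    LinearEquiv.det (refl Q v hv) = -1 := by
  apply Units.ext
  have h := det_isometryEquiv Q (Cfsg.Agent.ClassicalGeometry.Reflection.reflIso Q v hv)
  rw [isometryEquiv_reflIso, Cfsg.Agent.ClassicalGeometry.Reflection.det_reflIso] at h
  rw [h, Units.val_neg, Units.val_one]

variable [Finite F]

/-- the spinor sign -/
noncomputable def sg (Q : QuadraticForm F (ι → F)) : O Q →* ℤˣ :=
  (spinorSign (⇑Q) 1).comp (isometryEquiv Q).symm.toMonoidHom

theorem sg_refl (h2 : (2 : F) ≠ 0) {Q : QuadraticForm F (ι → F)} {v : ι → F} (hv : Q v ≠ 0)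
    [Decidable (IsSquare (Q v))] : sg Q ⟨refl Q v hv, refl_mem_O hv⟩ = if IsSquare (Q v) then -1 else 1 := by
  classical
  have h := spinorSign_reflIso h2 Q one_ne_zero v hv
  rw [← isometryEquiv_reflIso]
  show spinorSign (⇑Q) 1 ((isometryEquiv Q).symm (isometryEquiv Q _)) = _
  rw [MulEquiv.symm_apply_apply, h]
  simp only [one_mul]

theorem mem_E_iff {Q : QuadraticForm F (ι → F)} (hG : Good Q) (h2 : (2 : F) ≠ 0) {g : (ι → F) ≃ₗ[F] (ι → F)}
    (hg : g ∈ O Q) : g ∈ E Q ↔ LinearEquiv.det g = 1 ∧ sg Q ⟨g, hg⟩ = 1 := by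
  have hd : 2 ≤ Fintype.card ι := by
    have := hG.dim
    rw [Module.finrank_fintype_fun_eq_card] at this
    omega
  have hnd : (polarBilin Q).Nondegenerate := by
    refine ⟨fun x hx => hG.nondeg x hx, fun x hx => hG.nondeg x fun y => ?_⟩
    rw [polar_comm]
    exact hx y
  obtain ⟨h, hh⟩ : ∃ h, h = (isometryEquiv Q).symm ⟨g, hg⟩ := ⟨_, rfl⟩
  have hgh : isometryEquiv Q h = ⟨g, hg⟩ := by rw [hh, MulEquiv.apply_symm_apply]
  have h1 := mem_Omega_iff h2 Q hnd hd one_ne_zero h
  have h3 : LinearEquiv.det g = 1 ↔ ((h : Matrix.GeneralLinearGroup ι F) : Matrix ι ι F).det = 1 := by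
    rw [← det_isometryEquiv, hgh, ← Units.val_inj, Units.val_one]
  have h4 : sg Q ⟨g, hg⟩ = spinorSign (⇑Q) 1 h := by
    rw [← hgh]
    show spinorSign (⇑Q) 1 ((isometryEquiv Q).symm (isometryEquiv Q _)) = _
    rw [MulEquiv.symm_apply_apply]
  have h5 : g = isometryHom Q h := by
    have := congrArg Subtype.val hgh
    exact this.symm
  rw [h3, h4, ← h1, ← hG.commutator_eq_E, ← map_Omega, h5]
  exact (Subgroup.mem_map_iff_mem (isometryHom_injective Q))

end Cfsg.Agent.FooteOrth
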