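import Mathlib
import Cfsg.Agent.FooteOrth.WrForm
import Cfsg.Agent.FooteOrth.Spin
import Cfsg.Agent.GenOrth.Main
import Cfsg.Agent.GenOrth.Normal
import Cfsg.Agent.ClassicalGeometry.OrthSemiForms
import Cfsg.Agent.S0286
import Cfsg.Agent.S0287
import Cfsg.Agent.S0288
import Cfsg.Agent.S0790
import Cfsg.Agent.S0791

-- merged: Cfsg.Agent.FooteOrth.Gen
section

/-!
# 2-groups of isometries generated by reflections and elements of `X` (helper17)

`x_of_mem` : if the 2-group `P ≤ O Q` is generated by its reflections and by elements of `X`, then `P ∩ E Q ⊆ X`.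
-/

set_option autoImplicit false

namespace Cfsg.Agent.FooteOrth

open QuadraticMap Cfsg Subgroup
open Cfsg.Agent.LieClassical.OrthCore Cfsg.Agent.LieClassical.OrthTrans
open Cfsg.Agent.ClosedTwo.Elem

variable {ι : Type} [Fintype ι] [DecidableEq ι] {F : Type*} [Field F] [Finite F] {Q : QuadraticForm F (ι → F)}
  {G : Type*} [Group G] [Finite G] {φ : E Q →* G} {A : Subgroup G} {S : Sylow 2 G}

/-- coset representatives -/
inductive Rep (Q : QuadraticForm F (ι → F)) (P : Subgroup ((ι → F) ≃ₗ[F] (ι → F))) : ((ι → F) ≃ₗ[F] (ι → F)) → Prop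
  | one : Rep Q P 1
  | refl (v : ι → F) (hv : Q v ≠ 0) (h : refl Q v hv ∈ P) : Rep Q P (refl Q v hv)
  | two (v w : ι → F) (hv : Q v ≠ 0) (hw : Q w ≠ 0) (h : refl Q v hv ∈ P) (h' : refl Q w hw ∈ P)
      (hs : IsSquare (Q v)) (hn : ¬ IsSquare (Q w)) : Rep Q P (refl Q v hv * refl Q w hw)

theorem x_of_mem (hG : Good Q) (hd : 7 ≤ Module.finrank F (ι → F)) (h2 : (2 : F) ≠ 0)
    (hA : IsStronglyClosed A (S : Subgroup G)) (hex : ∃ (a b : ι → F) (h : Pair Q a b), XX φ A h.t)
    {P : Subgroup ((ι → F) ≃ₗ[F] (ι → F))} (hP : IsPGroup 2 P) (hPO : P ≤ O Q)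
    {M : Set ((ι → F) ≃ₗ[F] (ι → F))} (hM : ∀ x ∈ M, X φ A x)
    (hgen : P = closure (M ∪ {r | r ∈ P ∧ r ∈ reflSet Q})) {x : (ι → F) ≃ₗ[F] (ι → F)} (hx : x ∈ P) (hxE : x ∈ E Q) :
    X φ A x := by
  classical
  have hMP : ∀ x ∈ M, x ∈ P := fun x hx => by
    rw [hgen]
    exact subset_closure (Or.inl hx)
  -- products of two reflections of the same class
  have hrr : ∀ {v w : ι → F} (hv : Q v ≠ 0) (hw : Q w ≠ 0), (IsSquare (Q v) ↔ IsSquare (Q w)) → refl Q v hv ∈ P →
      refl Q w hw ∈ P → X φ A (refl Q v hv * refl Q w hw) := by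
    intro v w hv hw hs h h'
    obtain ⟨n, hn⟩ := hP ⟨_, P.mul_mem h h'⟩
    exact x_refl_mul hG hd h2 hA hex hv hw hs (n := n) (congrArg Subtype.val hn)
  -- swap
  have hsw : ∀ {v u : ι → F} (hv : Q v ≠ 0) (hu : Q u ≠ 0), ∃ (u' : ι → F) (hu' : Q u' ≠ 0),
      Q u' = Q u ∧ refl Q u' hu' = refl Q v hv * refl Q u hu * refl Q v hv := by
    intro v u hv hu
    have hu' : Q (refl Q v hv u) ≠ 0 := by rw [mem_O.1 (refl_mem_O hv)]; exact hu
    refine ⟨refl Q v hv u, hu', mem_O.1 (refl_mem_O hv) u, ?_⟩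
    rw [← refl_conj (refl_mem_O hv) hu hu', refl_inv]
  have key : ∀ x ∈ P, ∃ n s, x = n * s ∧ n ∈ P ∧ X φ A n ∧ Rep Q P s := by
    -- multiplication by a reflection
    have hrefl : ∀ (x : (ι → F) ≃ₗ[F] (ι → F)) (u : ι → F) (hu : Q u ≠ 0), x ∈ P → refl Q u hu ∈ P →
        (∃ n s, x = n * s ∧ n ∈ P ∧ X φ A n ∧ Rep Q P s) →
        ∃ n s, x * refl Q u hu = n * s ∧ n ∈ P ∧ X φ A n ∧ Rep Q P s := by
      rintro x u hu hxP huP ⟨n, s, rfl, hnP, hn, hs⟩
      cases hs with
      | one => exact ⟨n, refl Q u hu, by rw [mul_one], hnP, hn, Rep.refl u hu huP⟩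
      | refl v hv hvP =>
        by_cases h3 : IsSquare (Q v) ↔ IsSquare (Q u)
        · refine ⟨n * (refl Q v hv * refl Q u hu), 1, by group, P.mul_mem hnP (P.mul_mem hvP huP), ?_, Rep.one⟩
          exact X.mul hA hP hnP (P.mul_mem hvP huP) hn (hrr hv hu h3 hvP huP)
        · by_cases h4 : IsSquare (Q v)
          · have h5 : ¬ IsSquare (Q u) := fun h => h3 ⟨fun _ => h, fun _ => h4⟩
            exact ⟨n, refl Q v hv * refl Q u hu, by group, hnP, hn, Rep.two v u hv hu hvP huP h4 h5⟩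
          · have h5 : IsSquare (Q u) := by
              by_contra h
              exact h3 ⟨fun h' => (h4 h').elim, fun h' => (h h').elim⟩
            obtain ⟨u', hu', hq, he⟩ := hsw hv hu
            refine ⟨n, refl Q u' hu' * refl Q v hv, ?_, hnP, hn, Rep.two u' v hu' hv ?_ hvP (by rw [hq]; exact h5) h4⟩
            · rw [he]
              calc n * refl Q v hv * refl Q u hu = n * (refl Q v hv * refl Q u hu * (refl Q v hv * refl Q v hv)) := by
                    rw [refl_mul_self]; group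
                _ = _ := by group
            · rw [he]
              exact P.mul_mem (P.mul_mem hvP huP) hvP
      | two v w hv hw hvP hwP h4 h5 =>
        by_cases h3 : IsSquare (Q u)
        · obtain ⟨u', hu', hq, he⟩ := hsw hw hu
          have hu'P : refl Q u' hu' ∈ P := by
            rw [he]
            exact P.mul_mem (P.mul_mem hwP huP) hwP
          refine ⟨n * (refl Q v hv * refl Q u' hu'), refl Q w hw, ?_, P.mul_mem hnP (P.mul_mem hvP hu'P), ?_,
            Rep.refl w hw hwP⟩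
          · rw [he]
            calc n * (refl Q v hv * refl Q w hw) * refl Q u hu =
                  n * (refl Q v hv * (refl Q w hw * refl Q u hu * (refl Q w hw * refl Q w hw))) := by
                    rw [refl_mul_self hw]; group
              _ = _ := by group
          · exact X.mul hA hP hnP (P.mul_mem hvP hu'P) hn
              (hrr hv hu' ⟨fun _ => by rw [hq]; exact h3, fun _ => h4⟩ hvP hu'P)
        · have h6 := hrr hw hu ⟨fun h => (h5 h).elim, fun h => (h3 h).elim⟩ hwP huP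
          have h7 := h6.conj (refl_mem_O hv)
          have h8 : refl Q v hv * (refl Q w hw * refl Q u hu) * (refl Q v hv)⁻¹ ∈ P :=
            P.mul_mem (P.mul_mem hvP (P.mul_mem hwP huP)) (P.inv_mem hvP)
          exact ⟨n * (refl Q v hv * (refl Q w hw * refl Q u hu) * (refl Q v hv)⁻¹), refl Q v hv, by group,
            P.mul_mem hnP h8, X.mul hA hP hnP h8 hn h7, Rep.refl v hv hvP⟩
    -- multiplication by an element of `X`
    have hXm : ∀ (x m : (ι → F) ≃ₗ[F] (ι → F)), x ∈ P → m ∈ P → X φ A m →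
        (∃ n s, x = n * s ∧ n ∈ P ∧ X φ A n ∧ Rep Q P s) → ∃ n s, x * m = n * s ∧ n ∈ P ∧ X φ A n ∧ Rep Q P s := by
      rintro x m hxP hmP hm ⟨n, s, hx, hnP, hn, hs⟩
      have h7 := hm.conj (hPO hxP)
      have h8 : x * m * x⁻¹ ∈ P := P.mul_mem (P.mul_mem hxP hmP) (P.inv_mem hxP)
      refine ⟨(x * m * x⁻¹) * n, s, ?_, P.mul_mem h8 hnP, X.mul hA hP h8 hnP h7 hn, hs⟩
      calc x * m = x * m * x⁻¹ * x := by group
        _ = x * m * x⁻¹ * (n * s) := by rw [← hx]
        _ = _ := by group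
    intro x hx
    have hx' : x ∈ closure (M ∪ {r | r ∈ P ∧ r ∈ reflSet Q}) := by rwa [← hgen]
    clear hx
    induction hx' using closure_induction_right with
    | one => exact ⟨1, 1, by simp, P.one_mem, X.one, Rep.one⟩
    | mul_right x hx y hy ih =>
      rw [← hgen] at hx
      rcases hy with hy | ⟨hyP, u, hu, rfl⟩
      · exact hXm x y hx (hMP y hy) (hM y hy) ih
      · exact hrefl x u hu hx hyP ih
    | mul_inv_cancel x hx y hy ih =>
      rw [← hgen] at hx
      rcases hy with hy | ⟨hyP, u, hu, rfl⟩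
      · exact hXm x y⁻¹ hx (P.inv_mem (hMP y hy)) (hM y hy).inv ih
      · rw [refl_inv]
        exact hrefl x u hu hx hyP ih
  obtain ⟨n, s, rfl, hnP, hn, hs⟩ := key x hx
  have hsE : s ∈ E Q := by
    have h1 : n⁻¹ * (n * s) = s := by group
    rw [← h1]
    exact (E Q).mul_mem ((E Q).inv_mem hn.1) hxE
  have hneg : (-1 : Fˣ) ≠ 1 := by
    intro h
    apply h2
    have h1 := congrArg Units.val h
    rw [Units.val_neg, Units.val_one] at h1
    linear_combination -h1
  cases hs with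
  | one => rwa [mul_one]
  | refl v hv hvP =>
    exfalso
    have h1 := ((mem_E_iff hG h2 (refl_mem_O hv)).1 hsE).1
    rw [det_refl] at h1
    exact hneg h1
  | two v w hv hw hvP hwP h4 h5 =>
    exfalso
    have h1 := ((mem_E_iff hG h2 ((O Q).mul_mem (refl_mem_O hv) (refl_mem_O hw))).1 hsE).2
    have h3 : (⟨refl Q v hv * refl Q w hw, (O Q).mul_mem (refl_mem_O hv) (refl_mem_O hw)⟩ : O Q) =
        ⟨refl Q v hv, refl_mem_O hv⟩ * ⟨refl Q w hw, refl_mem_O hw⟩ := rfl
    rw [h3, map_mul, sg_refl h2, sg_refl h2, if_pos h4, if_neg h5] at h1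
    exact absurd h1 (by decide)

end Cfsg.Agent.FooteOrth

end

-- merged: Cfsg.Agent.FooteOrth.Sylow
section

/-!
# The row of `POmega F Q` from a good Sylow 2-subgroup of `O Q` (helper17)

`closedRow_of_sylow` : if `O Q` has a Sylow 2-subgroup generated by reflections and elements of `PX` then the strongly
closed subgroups of a Sylow 2-subgroup of `POmega F Q` are trivial or the whole.
-/

set_option autoImplicit false

namespace Cfsg.Agent.FooteOrth

open QuadraticMap Cfsg Subgroup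
open Cfsg.Agent.LieClassical.OrthCore Cfsg.Agent.LieClassical.OrthTrans Cfsg.Agent.LieClassical.OrthFinite
open Cfsg.Agent.ClosedTwo.Elem
open Cfsg.Agent.TitsThree.KSideO (toPOmega toPOmega_surjective center_of_toPOmega scalar_of_center toOmega)

variable {ι : Type} [Fintype ι] [DecidableEq ι] {F : Type*} [Field F] {Q : QuadraticForm F (ι → F)}

theorem toPOmega_of_center (hG : Good Q) {g : E Q} (h : g ∈ center (E Q)) : toPOmega hG g = 1 := by
  show QuotientGroup.mk' (Subgroup.center (Cfsg.Omega F ⇑Q)) (toOmega hG g) = 1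
  rw [QuotientGroup.mk'_apply, QuotientGroup.eq_one_iff, Subgroup.mem_center_iff]
  intro k
  obtain ⟨k, rfl⟩ := (toOmega hG).surjective k
  rw [← map_mul, ← map_mul, (Subgroup.mem_center_iff.1 h) k]

theorem toPOmega_neg (hG : Good Q) (k : E Q) (h : ∀ v, (k : (ι → F) ≃ₗ[F] (ι → F)) v = -v) : toPOmega hG k = 1 := by
  apply toPOmega_of_center
  rw [Subgroup.mem_center_iff]
  intro g
  apply Subtype.ext
  ext1 v
  show (g : (ι → F) ≃ₗ[F] (ι → F)) ((k : (ι → F) ≃ₗ[F] (ι → F)) v) =
    (k : (ι → F) ≃ₗ[F] (ι → F)) ((g : (ι → F) ≃ₗ[F] (ι → F)) v)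
  rw [h, h, map_neg]

theorem toPOmega_ker (hG : Good Q) (k : E Q) (h : toPOmega hG k = 1) :
    ∃ c : F, (c = 1 ∨ c = -1) ∧ ∀ v, (k : (ι → F) ≃ₗ[F] (ι → F)) v = c • v := by
  obtain ⟨c, hc⟩ := scalar_of_center hG (center_of_toPOmega hG h)
  exact ⟨c, Cfsg.Agent.GenOrth.scalar_sq hG k.2 hc, hc⟩

variable [Finite F]

theorem closedRow_of_sylow (hG : Good Q) (hd : 7 ≤ Module.finrank F (ι → F)) (h2 : (2 : F) ≠ 0)
    {T : Subgroup ((ι → F) ≃ₗ[F] (ι → F))} (hT : IsPGroup 2 T) (hTO : T ≤ O Q) {M : Set ((ι → F) ≃ₗ[F] (ι → F))}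
    (hM : ∀ x ∈ M, PX Q x) (hgen : T = closure (M ∪ {r | r ∈ T ∧ r ∈ reflSet Q}))
    (hcard : (Nat.card (O Q)).factorization 2 ≤ (Nat.card T).factorization 2) :
    ClosedRow (Cfsg.POmega F ⇑Q) := by
  have hp : Fact (Nat.Prime 2) := ⟨Nat.prime_two⟩
  have hfin : Finite ((ι → F) ≃ₗ[F] (ι → F)) := DFunLike.finite _
  have hfinG : Finite (Cfsg.POmega F ⇑Q) := Finite.of_surjective _ (toPOmega_surjective hG)
  -- `T` is a Sylow 2-subgroup of `O Q`
  have hTS : ∀ g ∈ O Q, ∀ n : ℕ, g ^ 2 ^ n = 1 → ∃ h ∈ O Q, h * g * h⁻¹ ∈ T := by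
    have hc1 : Nat.card (T.subgroupOf (O Q)) = Nat.card T :=
      Nat.card_congr (Subgroup.subgroupOfEquivOfLe hTO).toEquiv
    have hdvd : Nat.card T ∣ Nat.card (O Q) := Subgroup.card_dvd_of_le hTO
    have hcT : Nat.card T = 2 ^ (Nat.card (O Q)).factorization 2 := by
      obtain ⟨n, hn⟩ := IsPGroup.iff_card.1 hT
      have h0 : Nat.card (O Q) ≠ 0 := Nat.card_pos.ne'
      have h1 : n ≤ (Nat.card (O Q)).factorization 2 := by
        rw [hn] at hdvd
        exact (Nat.Prime.pow_dvd_iff_le_factorization Nat.prime_two h0).1 hdvd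
      rw [hn, Nat.Prime.factorization_pow Nat.prime_two, Finsupp.single_eq_same] at hcard
      rw [hn, le_antisymm h1 hcard]
    let S : Sylow 2 (O Q) := Sylow.ofCard (T.subgroupOf (O Q)) (by rw [hc1, hcT])
    have hS : (S : Subgroup (O Q)) = T.subgroupOf (O Q) := rfl
    intro g hg n hn
    have hz : IsPGroup 2 (zpowers (⟨g, hg⟩ : O Q)) := by
      rintro ⟨x, hx⟩
      obtain ⟨k, rfl⟩ := mem_zpowers_iff.1 hx
      refine ⟨n, Subtype.ext (Subtype.ext ?_)⟩
      show (g ^ k) ^ 2 ^ n = 1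
      rw [← zpow_natCast, ← zpow_mul, mul_comm, zpow_mul, zpow_natCast, hn, one_zpow]
    obtain ⟨h, hh⟩ := exists_conj_le S hz
    have h3 := hh _ (mem_zpowers _)
    rw [hS] at h3
    exact ⟨h, h.2, h3⟩
  intro S A hA
  by_cases hA1 : A = ⊥
  · exact Or.inl hA1
  right
  have hex := exists_pair (φ := toPOmega hG) hG hd h2 (toPOmega_surjective hG) (toPOmega_neg hG) (toPOmega_ker hG) hA hA1
  have hX : ∀ {g : (ι → F) ≃ₗ[F] (ι → F)}, PX Q g → X (toPOmega hG) A g := fun hg =>
    PX.x hA (fun h => x_pair hG hd h2 hex h) hg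
  have hTX : ∀ x ∈ T, x ∈ E Q → X (toPOmega hG) A x := fun x hx hxE =>
    x_of_mem hG hd h2 hA hex hT hTO (fun y hy => hX (hM y hy)) hgen hx hxE
  refine eq_of_cl hA fun x hx => ?_
  obtain ⟨g, rfl⟩ := toPOmega_surjective hG x
  -- `g` is a 2-element
  obtain ⟨n, hn⟩ := S.isPGroup' ⟨_, hx⟩
  have hn' : toPOmega hG g ^ 2 ^ n = 1 := congrArg Subtype.val hn
  rw [← map_pow] at hn'
  obtain ⟨c, hc, hcv⟩ := toPOmega_ker hG _ hn'
  have hg2 : (g : (ι → F) ≃ₗ[F] (ι → F)) ^ 2 ^ (n + 1) = 1 := by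
    rw [pow_succ, pow_mul, pow_two]
    ext1 v
    show ((g : (ι → F) ≃ₗ[F] (ι → F)) ^ 2 ^ n) (((g : (ι → F) ≃ₗ[F] (ι → F)) ^ 2 ^ n) v) = v
    have h3 : ∀ v, ((g : (ι → F) ≃ₗ[F] (ι → F)) ^ 2 ^ n) v = c • v := hcv
    rw [h3, h3, smul_smul]
    rcases hc with rfl | rfl <;> simp
  obtain ⟨h, hh, hhT⟩ := hTS _ (E_le_O g.2) _ hg2
  have h4 := hTX _ hhT (conj_mem_E hh g.2)
  exact (h4.of_conj hh).xx.2

end Cfsg.Agent.FooteOrth

end

-- merged: Cfsg.Agent.FooteOrth.Plane
section

/-!
# The plane `x² + y²` and sign changes (helper17)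

* `qW`, `basis2`, `card_O_qW : |O(qW)| = 2 |{x² + y² = 1}|`, `card_circle`;
* `exists_D` : a 2-subgroup of `O(qW)` of order the 2-part of `|O(qW)|`, generated by reflections;
* `qU d`, `exists_T` : the sign changes on `Fin k → F`.
-/

set_option autoImplicit false

namespace Cfsg.Agent.FooteOrth.Wr

open QuadraticMap Cfsg Subgroup
open Cfsg.Agent.LieClassical.OrthCore Cfsg.Agent.LieClassical.OrthTrans

variable {F : Type*} [Field F]

/-- the form `x² + y²` -/
noncomputable def qW (F : Type*) [Field F] : QuadraticForm F (F × F) :=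
  QuadraticMap.prod QuadraticMap.sq QuadraticMap.sq

theorem qW_apply (w : F × F) : qW F w = w.1 * w.1 + w.2 * w.2 := by
  rw [qW, QuadraticMap.prod_apply, QuadraticMap.sq_apply, QuadraticMap.sq_apply]

theorem polar_qW (v w : F × F) : polar (qW F) v w = 2 * (v.1 * w.1 + v.2 * w.2) := by
  rw [polar, qW_apply, qW_apply, qW_apply]
  simp only [Prod.fst_add, Prod.snd_add]
  ring

theorem basis2 (h2 : (2 : F) ≠ 0) : Basis2 (qW F) (1, 0) (0, 1) where
  pair := ⟨by rw [qW_apply]; simp, by rw [qW_apply]; simp, by rw [qW_apply, qW_apply]; simp, by rw [polar_qW]; simp⟩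
  span w := by
    rw [qW_apply, qW_apply, polar_qW, polar_qW]
    ext
    · simp
      field_simp
    · simp
      field_simp

/-- the circle -/
abbrev Circle (F : Type*) [Field F] := {p : F × F // p.1 * p.1 + p.2 * p.2 = 1}

/-- rotation -/
def rot (p : Circle F) : (F × F) ≃ₗ[F] (F × F) where
  toFun w := (p.1.1 * w.1 - p.1.2 * w.2, p.1.2 * w.1 + p.1.1 * w.2)
  invFun w := (p.1.1 * w.1 + p.1.2 * w.2, -(p.1.2 * w.1) + p.1.1 * w.2)
  map_add' v w := by ext <;> simp <;> ring
  map_smul' c v := by ext <;> simp <;> ring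
  left_inv w := by
    have h := p.2
    ext
    · show p.1.1 * (p.1.1 * w.1 - p.1.2 * w.2) + p.1.2 * (p.1.2 * w.1 + p.1.1 * w.2) = w.1
      linear_combination w.1 * h
    · show -(p.1.2 * (p.1.1 * w.1 - p.1.2 * w.2)) + p.1.1 * (p.1.2 * w.1 + p.1.1 * w.2) = w.2
      linear_combination w.2 * h
  right_inv w := by
    have h := p.2
    ext
    · show p.1.1 * (p.1.1 * w.1 + p.1.2 * w.2) - p.1.2 * (-(p.1.2 * w.1) + p.1.1 * w.2) = w.1
      linear_combination w.1 * h
    · show p.1.2 * (p.1.1 * w.1 + p.1.2 * w.2) + p.1.1 * (-(p.1.2 * w.1) + p.1.1 * w.2) = w.2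
      linear_combination w.2 * h

/-- reflection -/
def ref (p : Circle F) : (F × F) ≃ₗ[F] (F × F) where
  toFun w := (p.1.1 * w.1 + p.1.2 * w.2, p.1.2 * w.1 - p.1.1 * w.2)
  invFun w := (p.1.1 * w.1 + p.1.2 * w.2, p.1.2 * w.1 - p.1.1 * w.2)
  map_add' v w := by ext <;> simp <;> ring
  map_smul' c v := by ext <;> simp <;> ring
  left_inv w := by
    have h := p.2
    ext
    · show p.1.1 * (p.1.1 * w.1 + p.1.2 * w.2) + p.1.2 * (p.1.2 * w.1 - p.1.1 * w.2) = w.1
      linear_combination w.1 * h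
    · show p.1.2 * (p.1.1 * w.1 + p.1.2 * w.2) - p.1.1 * (p.1.2 * w.1 - p.1.1 * w.2) = w.2
      linear_combination w.2 * h
  right_inv w := by
    have h := p.2
    ext
    · show p.1.1 * (p.1.1 * w.1 + p.1.2 * w.2) + p.1.2 * (p.1.2 * w.1 - p.1.1 * w.2) = w.1
      linear_combination w.1 * h
    · show p.1.2 * (p.1.1 * w.1 + p.1.2 * w.2) - p.1.1 * (p.1.2 * w.1 - p.1.1 * w.2) = w.2
      linear_combination w.2 * h

theorem rot_apply (p : Circle F) (w : F × F) : rot p w = (p.1.1 * w.1 - p.1.2 * w.2, p.1.2 * w.1 + p.1.1 * w.2) := rfl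

theorem ref_apply (p : Circle F) (w : F × F) : ref p w = (p.1.1 * w.1 + p.1.2 * w.2, p.1.2 * w.1 - p.1.1 * w.2) := rfl

theorem rot_mem (p : Circle F) : rot p ∈ O (qW F) := by
  intro w
  rw [rot_apply, qW_apply, qW_apply]
  linear_combination (w.1 * w.1 + w.2 * w.2) * p.2

theorem ref_mem (p : Circle F) : ref p ∈ O (qW F) := by
  intro w
  rw [ref_apply, qW_apply, qW_apply]
  linear_combination (w.1 * w.1 + w.2 * w.2) * p.2

theorem ext_W {g h : (F × F) ≃ₗ[F] (F × F)} (h1 : g (1, 0) = h (1, 0)) (h2 : g (0, 1) = h (0, 1)) : g = h := by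
  ext1 w
  have e : w = w.1 • ((1 : F), (0 : F)) + w.2 • ((0 : F), (1 : F)) := by ext <;> simp
  rw [e, map_add, map_add, map_smul, map_smul, map_smul, map_smul, h1, h2]

theorem rot_or_ref (h2 : (2 : F) ≠ 0) {g : (F × F) ≃ₗ[F] (F × F)} (hg : g ∈ O (qW F)) :
    ∃ p : Circle F, g = rot p ∨ g = ref p := by
  obtain ⟨x, y, hxy⟩ : ∃ x y, g (1, 0) = (x, y) := ⟨_, _, rfl⟩
  obtain ⟨z, w, hzw⟩ : ∃ z w, g (0, 1) = (z, w) := ⟨_, _, rfl⟩
  have h3 := mem_O.1 hg (1, 0)
  have h4 := mem_O.1 hg (0, 1)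
  have h5 := polar_map hg (1, 0) (0, 1)
  rw [hxy, hzw, polar_qW, polar_qW] at h5
  rw [hxy, qW_apply, qW_apply] at h3
  rw [hzw, qW_apply, qW_apply] at h4
  simp only [mul_one, mul_zero, add_zero, zero_add] at h3 h4 h5
  have h6 : x * z + y * w = 0 := (mul_eq_zero.1 h5).resolve_left h2
  -- `(z, w) = s (-y, x)`
  obtain ⟨s, hs⟩ : ∃ s, s = x * w - y * z := ⟨_, rfl⟩
  have hz : z = -(s * y) := by
    rw [hs]
    linear_combination -z * h3 + x * h6
  have hw : w = s * x := by
    rw [hs]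
    linear_combination -w * h3 + y * h6
  have hss : s * s = 1 := by
    rw [hz, hw] at h4
    have h7 : s * s * (x * x + y * y) = 1 := by linear_combination h4
    rwa [h3, mul_one] at h7
  refine ⟨⟨(x, y), h3⟩, ?_⟩
  rcases mul_self_eq_one_iff.1 hss with h1 | h1
  · left
    refine ext_W ?_ ?_
    · rw [hxy, rot_apply]; simp
    · rw [hzw, rot_apply, hz, hw, h1]; simp
  · right
    refine ext_W ?_ ?_
    · rw [hxy, ref_apply]; simp
    · rw [hzw, ref_apply, hz, hw, h1]; simp

theorem rot_ne_ref (h2 : (2 : F) ≠ 0) (p p' : Circle F) : rot p ≠ ref p' := by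
  intro h
  have h3 := DFunLike.congr_fun h (1, 0)
  have h4 := DFunLike.congr_fun h (0, 1)
  rw [rot_apply, ref_apply] at h3 h4
  simp only [mul_one, mul_zero, sub_zero, add_zero, zero_add, zero_sub, Prod.mk.injEq] at h3 h4
  have hx : p.1.1 = 0 := by
    have : (2 : F) * p.1.1 = 0 := by linear_combination h3.1 + h4.2
    exact (mul_eq_zero.1 this).resolve_left h2
  have hy : p.1.2 = 0 := by
    have : (2 : F) * p.1.2 = 0 := by linear_combination h3.2 - h4.1
    exact (mul_eq_zero.1 this).resolve_left h2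
  have := p.2
  rw [hx, hy] at this
  simp at this

theorem rot_injective : Function.Injective (rot : Circle F → _) := by
  intro p p' h
  have h3 := DFunLike.congr_fun h (1, 0)
  rw [rot_apply, rot_apply] at h3
  simp only [mul_one, mul_zero, sub_zero, add_zero, Prod.mk.injEq] at h3
  exact Subtype.ext (Prod.ext h3.1 h3.2)

theorem ref_injective : Function.Injective (ref : Circle F → _) := by
  intro p p' h
  have h3 := DFunLike.congr_fun h (1, 0)
  rw [ref_apply, ref_apply] at h3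
  simp only [mul_one, mul_zero, sub_zero, add_zero, Prod.mk.injEq] at h3
  exact Subtype.ext (Prod.ext h3.1 h3.2)

theorem card_O_qW (h2 : (2 : F) ≠ 0) : Nat.card (O (qW F)) = Nat.card (Circle F) + Nat.card (Circle F) ∨
    Infinite (Circle F) := by
  by_cases hinf : Finite (Circle F)
  · left
    rw [← Nat.card_sum]
    symm
    refine Nat.card_congr (Equiv.ofBijective (Sum.elim (fun p => (⟨rot p, rot_mem p⟩ : O (qW F)))
      (fun p => (⟨ref p, ref_mem p⟩ : O (qW F)))) ⟨?_, ?_⟩)
    · rintro (p | p) (p' | p') h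
      · exact congrArg Sum.inl (rot_injective (congrArg Subtype.val h))
      · exact (rot_ne_ref h2 p p' (congrArg Subtype.val h)).elim
      · exact (rot_ne_ref h2 p' p (congrArg Subtype.val h).symm).elim
      · exact congrArg Sum.inr (ref_injective (congrArg Subtype.val h))
    · rintro ⟨g, hg⟩
      obtain ⟨p, rfl | rfl⟩ := rot_or_ref h2 hg
      · exact ⟨Sum.inl p, rfl⟩
      · exact ⟨Sum.inr p, rfl⟩
  · right
    exact not_finite_iff_infinite.1 hinf

/-- the rotations form a subgroup -/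
def Rot (F : Type*) [Field F] : Subgroup ((F × F) ≃ₗ[F] (F × F)) where
  carrier := Set.range rot
  one_mem' := ⟨⟨(1, 0), by simp⟩, by
    refine ext_W ?_ ?_ <;> rw [rot_apply] <;> simp⟩
  mul_mem' := by
    rintro _ _ ⟨p, rfl⟩ ⟨p', rfl⟩
    refine ⟨⟨(p.1.1 * p'.1.1 - p.1.2 * p'.1.2, p.1.2 * p'.1.1 + p.1.1 * p'.1.2), ?_⟩, ?_⟩
    · have h := p.2
      have h' := p'.2
      show (p.1.1 * p'.1.1 - p.1.2 * p'.1.2) * (p.1.1 * p'.1.1 - p.1.2 * p'.1.2) +
        (p.1.2 * p'.1.1 + p.1.1 * p'.1.2) * (p.1.2 * p'.1.1 + p.1.1 * p'.1.2) = 1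
      linear_combination (p'.1.1 * p'.1.1 + p'.1.2 * p'.1.2) * h + h'
    · refine ext_W ?_ ?_
      · show rot _ _ = rot p (rot p' _)
        rw [rot_apply, rot_apply, rot_apply]
        ext <;> simp
      · show rot _ _ = rot p (rot p' _)
        rw [rot_apply, rot_apply, rot_apply]
        ext <;> simp <;> ring
  inv_mem' := by
    rintro _ ⟨p, rfl⟩
    refine ⟨⟨(p.1.1, -p.1.2), by have h := p.2; show p.1.1 * p.1.1 + -p.1.2 * -p.1.2 = 1; linear_combination h⟩, ?_⟩
    rw [eq_inv_iff_mul_eq_one]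
    have h := p.2
    refine ext_W ?_ ?_
    · show rot _ (rot p _) = _
      rw [rot_apply, rot_apply]
      ext
      · simp; linear_combination h
      · simp; ring
    · show rot _ (rot p _) = _
      rw [rot_apply, rot_apply]
      ext
      · simp; ring
      · simp; linear_combination h

theorem rot_mul_ref (p p' : Circle F) : ∃ p'' : Circle F, rot p * ref p' = ref p'' := by
  refine ⟨⟨(p.1.1 * p'.1.1 - p.1.2 * p'.1.2, p.1.2 * p'.1.1 + p.1.1 * p'.1.2), ?_⟩, ?_⟩
  · have h := p.2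
    have h' := p'.2
    show (p.1.1 * p'.1.1 - p.1.2 * p'.1.2) * (p.1.1 * p'.1.1 - p.1.2 * p'.1.2) +
      (p.1.2 * p'.1.1 + p.1.1 * p'.1.2) * (p.1.2 * p'.1.1 + p.1.1 * p'.1.2) = 1
    linear_combination (p'.1.1 * p'.1.1 + p'.1.2 * p'.1.2) * h + h'
  · refine ext_W ?_ ?_
    · show rot p (ref p' _) = ref _ _
      rw [rot_apply, ref_apply, ref_apply]
      ext <;> simp
    · show rot p (ref p' _) = ref _ _
      rw [rot_apply, ref_apply, ref_apply]
      ext <;> simp <;> ring

theorem ref_mem_reflSet (h2 : (2 : F) ≠ 0) (p : Circle F) : ref p ∈ reflSet (qW F) := by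
  by_cases hx : p.1.1 = 1
  · have hy : p.1.2 = 0 := by
      have h := p.2
      rw [hx] at h
      have : p.1.2 * p.1.2 = 0 := by linear_combination h
      exact mul_self_eq_zero.1 this
    have hq : qW F (0, 1) ≠ 0 := by rw [qW_apply]; simp
    refine ⟨(0, 1), hq, ?_⟩
    refine ext_W ?_ ?_
    · rw [ref_apply, refl_apply, polar_qW, qW_apply, hx, hy]; simp
    · rw [ref_apply, refl_apply, polar_qW, qW_apply, hx, hy]
      ext
      · simp
      · simp; ring
  · have h := p.2
    have hx' : (1 : F) - p.1.1 ≠ 0 := fun h => hx (sub_eq_zero.1 h).symm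
    have hq0 : qW F (1 - p.1.1, -p.1.2) = 2 * (1 - p.1.1) := by
      rw [qW_apply]
      linear_combination h
    have hq : qW F (1 - p.1.1, -p.1.2) ≠ 0 := by rw [hq0]; exact mul_ne_zero h2 hx'
    refine ⟨_, hq, ?_⟩
    refine ext_W ?_ ?_
    · rw [ref_apply, refl_apply, polar_qW, hq0]
      ext
      · simp; field_simp; ring
      · simp; field_simp
    · rw [ref_apply, refl_apply, polar_qW, hq0]
      ext
      · simp; field_simp
      · simp; field_simp; linear_combination h

variable [Finite F]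

/-- a Sylow 2-subgroup of `O(qW)` -/
theorem exists_D (h2 : (2 : F) ≠ 0) : ∃ D : Subgroup ((F × F) ≃ₗ[F] (F × F)), IsPGroup 2 D ∧ D ≤ O (qW F) ∧
    Nat.card D = 2 ^ (Nat.card (O (qW F))).factorization 2 ∧ D ≤ closure {r | r ∈ D ∧ r ∈ reflSet (qW F)} := by
  have hp : Fact (Nat.Prime 2) := ⟨Nat.prime_two⟩
  have hfin : Finite ((F × F) ≃ₗ[F] (F × F)) := DFunLike.finite _
  have hcard : Nat.card (O (qW F)) = 2 * Nat.card (Circle F) := by
    rcases card_O_qW h2 with h | h
    · rw [h, two_mul]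
    · exact (not_finite (Circle F)).elim
  have hc0 : Nat.card (Circle F) ≠ 0 := by
    have : Nonempty (Circle F) := ⟨⟨(1, 0), by simp⟩⟩
    exact Nat.card_pos.ne'
  obtain ⟨S⟩ : Nonempty (Sylow 2 (O (qW F))) := inferInstance
  refine ⟨(S : Subgroup (O (qW F))).map (O (qW F)).subtype, S.isPGroup'.map _, map_subtype_le _, ?_, ?_⟩
  · rw [card_map_of_injective (O (qW F)).subtype_injective, S.card_eq_multiplicity]
  · obtain ⟨D, hD⟩ : ∃ D, D = (S : Subgroup (O (qW F))).map (O (qW F)).subtype := ⟨_, rfl⟩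
    have hDc : Nat.card D = 2 ^ (Nat.card (O (qW F))).factorization 2 := by
      rw [hD, card_map_of_injective (O (qW F)).subtype_injective, S.card_eq_multiplicity]
    rw [← hD]
    have hDO : D ≤ O (qW F) := by rw [hD]; exact map_subtype_le _
    obtain ⟨p', hp'⟩ : ∃ p' : Circle F, ref p' ∈ D := by
      by_contra hcon
      push Not at hcon
      have hle : D ≤ Rot F := by
        intro g hg
        obtain ⟨p, rfl | rfl⟩ := rot_or_ref h2 (hDO hg)
        · exact ⟨p, rfl⟩
        · exact (hcon p hg).elim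
      have h3 := Subgroup.card_dvd_of_le hle
      have h4 : Nat.card (Rot F) = Nat.card (Circle F) :=
        (Nat.card_congr (Equiv.ofInjective _ rot_injective)).symm
      rw [hDc, hcard, h4, Nat.factorization_mul two_ne_zero hc0, Finsupp.add_apply,
        Nat.Prime.factorization_self Nat.prime_two] at h3
      have h5 := (Nat.Prime.pow_dvd_iff_le_factorization Nat.prime_two hc0).1 h3
      omega
    intro g hg
    have hr : ref p' ∈ closure {r | r ∈ D ∧ r ∈ reflSet (qW F)} := subset_closure ⟨hp', ref_mem_reflSet h2 p'⟩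
    obtain ⟨p, rfl | rfl⟩ := rot_or_ref h2 (hDO hg)
    · obtain ⟨p'', hp''⟩ := rot_mul_ref p p'
      have h3 : ref p'' ∈ D := by
        rw [← hp'']
        exact D.mul_mem hg hp'
      have h4 : rot p = ref p'' * (ref p')⁻¹ := by rw [← hp'']; group
      rw [h4]
      exact mul_mem (subset_closure ⟨h3, ref_mem_reflSet h2 p''⟩) (inv_mem hr)
    · exact subset_closure ⟨hg, ref_mem_reflSet h2 p⟩

/-! ### The circle -/

/-- the solutions of `x² + y² = c`, `c ≠ 0`, are as many as for `c = 1` -/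
theorem card_circle_eq (h2 : (2 : F) ≠ 0) {c : F} (hc : c ≠ 0) :
    Nat.card {p : F × F // p.1 * p.1 + p.2 * p.2 = c} = Nat.card (Circle F) := by
  obtain ⟨s, t, hst⟩ := Cfsg.Agent.ClassicalGeometry.Universal.exists_sq_add_sq h2 (one_ne_zero (α := F))
    (one_ne_zero (α := F)) c
  have hst' : s * s + t * t = c := by linear_combination hst
  symm
  refine Nat.card_congr
    { toFun := fun p => ⟨(s * p.1.1 - t * p.1.2, t * p.1.1 + s * p.1.2), ?_⟩
      invFun := fun p => ⟨((s * p.1.1 + t * p.1.2) / c, (s * p.1.2 - t * p.1.1) / c), ?_⟩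
      left_inv := ?_
      right_inv := ?_ }
  · have h := p.2
    show (s * p.1.1 - t * p.1.2) * (s * p.1.1 - t * p.1.2) + (t * p.1.1 + s * p.1.2) * (t * p.1.1 + s * p.1.2) = c
    linear_combination (s * s + t * t) * h + hst'
  · have h := p.2
    show (s * p.1.1 + t * p.1.2) / c * ((s * p.1.1 + t * p.1.2) / c) +
      (s * p.1.2 - t * p.1.1) / c * ((s * p.1.2 - t * p.1.1) / c) = 1
    field_simp
    linear_combination (s * s + t * t) * h + c * hst'
  · intro p
    apply Subtype.ext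
    refine Prod.ext ?_ ?_
    · show (s * (s * p.1.1 - t * p.1.2) + t * (t * p.1.1 + s * p.1.2)) / c = p.1.1
      rw [div_eq_iff hc]
      linear_combination p.1.1 * hst'
    · show (s * (t * p.1.1 + s * p.1.2) - t * (s * p.1.1 - t * p.1.2)) / c = p.1.2
      rw [div_eq_iff hc]
      linear_combination p.1.2 * hst'
  · intro p
    apply Subtype.ext
    refine Prod.ext ?_ ?_
    · show s * ((s * p.1.1 + t * p.1.2) / c) - t * ((s * p.1.2 - t * p.1.1) / c) = p.1.1
      field_simp
      linear_combination p.1.1 * hst'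
    · show t * ((s * p.1.1 + t * p.1.2) / c) + s * ((s * p.1.2 - t * p.1.1) / c) = p.1.2
      field_simp
      linear_combination p.1.2 * hst'

/-- the number of points of the circle is `q - 1` or `q + 1`, and it is divisible by four -/
theorem card_circle (h2 : (2 : F) ≠ 0) :
    (Nat.card (Circle F) + 1 = Nat.card F ∧ Nat.card F % 4 = 1) ∨
      (Nat.card (Circle F) = Nat.card F + 1 ∧ Nat.card F % 4 = 3) := by
  classical
  let _ := Fintype.ofFinite F
  have hq1 : 1 < Nat.card F := Finite.one_lt_card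
  -- total count
  have htot : Nat.card F * Nat.card F = Nat.card {p : F × F // p.1 * p.1 + p.2 * p.2 = 0} +
      (Nat.card F - 1) * Nat.card (Circle F) := by
    have e1 : Nat.card F * Nat.card F = ∑ c : F, Nat.card {p : F × F // p.1 * p.1 + p.2 * p.2 = c} := by
      rw [← Nat.card_prod, ← Nat.card_sigma]
      exact Nat.card_congr (Equiv.sigmaFiberEquiv (fun p : F × F => p.1 * p.1 + p.2 * p.2)).symm
    rw [e1, ← Finset.add_sum_erase _ _ (Finset.mem_univ (0 : F)),
      Finset.sum_congr rfl (fun c hc => card_circle_eq h2 (Finset.ne_of_mem_erase hc)), Finset.sum_const,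
      Finset.card_erase_of_mem (Finset.mem_univ _), Finset.card_univ, smul_eq_mul, Nat.card_eq_fintype_card (α := F)]
  by_cases hi : ∃ i : F, i * i = -1
  · left
    obtain ⟨i, hi⟩ := hi
    have h0 : Nat.card {p : F × F // p.1 * p.1 + p.2 * p.2 = 0} + 1 = 2 * Nat.card F := by
      have hi0 : i ≠ 0 := by
        rintro rfl
        rw [mul_zero] at hi
        exact neg_ne_zero.2 one_ne_zero hi.symm
      -- `(x, ± i x)`
      have e : {p : F × F | p.1 * p.1 + p.2 * p.2 = 0} = Set.range (fun x : F => (x, i * x)) ∪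
          Set.range (fun x : F => (x, -(i * x))) := by
        ext ⟨x, y⟩
        simp only [Set.mem_ofPred_eq, Set.mem_union, Set.mem_range, Prod.mk.injEq]
        constructor
        · intro h
          have h3 : (y - i * x) * (y + i * x) = 0 := by linear_combination h - x * x * hi
          rcases mul_eq_zero.1 h3 with h4 | h4
          · left
            exact ⟨x, rfl, (sub_eq_zero.1 h4).symm⟩
          · right
            exact ⟨x, rfl, (eq_neg_of_add_eq_zero_left h4).symm⟩
        · rintro (⟨z, rfl, rfl⟩ | ⟨z, rfl, rfl⟩) <;> linear_combination z * z * hi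
      have h3 : Nat.card {p : F × F // p.1 * p.1 + p.2 * p.2 = 0} = Set.ncard (Set.range (fun x : F => (x, i * x)) ∪
          Set.range (fun x : F => (x, -(i * x)))) := by
        rw [← e]; rfl
      have h4 := Set.ncard_union_add_ncard_inter (Set.range (fun x : F => (x, i * x)))
        (Set.range (fun x : F => (x, -(i * x))))
      have h5 : Set.range (fun x : F => (x, i * x)) ∩ Set.range (fun x : F => (x, -(i * x))) = {(0, 0)} := by
        ext ⟨x, y⟩
        simp only [Set.mem_inter_iff, Set.mem_range, Set.mem_singleton_iff, Prod.mk.injEq]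
        constructor
        · rintro ⟨⟨z, rfl, rfl⟩, ⟨w, hw, hw'⟩⟩
          subst hw
          have : (2 : F) * (i * w) = 0 := by linear_combination -hw'
          have h6 := (mul_eq_zero.1 ((mul_eq_zero.1 this).resolve_left h2)).resolve_left hi0
          exact ⟨h6, by rw [h6, mul_zero]⟩
        · rintro ⟨rfl, rfl⟩
          exact ⟨⟨0, rfl, mul_zero _⟩, ⟨0, rfl, by rw [mul_zero, neg_zero]⟩⟩
      have h6 : (Set.range (fun x : F => (x, i * x))).ncard = Nat.card F := by
        rw [← Nat.card_coe_set_eq]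
        exact (Nat.card_congr (Equiv.ofInjective _ fun a b h => (Prod.mk.inj h).1)).symm
      have h7 : (Set.range (fun x : F => (x, -(i * x)))).ncard = Nat.card F := by
        rw [← Nat.card_coe_set_eq]
        exact (Nat.card_congr (Equiv.ofInjective _ fun a b h => (Prod.mk.inj h).1)).symm
      rw [h5, h6, h7, Set.ncard_singleton] at h4
      rw [h3, h4, two_mul]
    constructor
    · obtain ⟨r, hr⟩ : ∃ r, Nat.card F = r + 2 := ⟨Nat.card F - 2, by omega⟩
      rw [hr] at htot h0 ⊢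
      have h3 : (r + 1) * (Nat.card (Circle F) + 1) = (r + 1) * (r + 2) := by
        have h4 : r + 2 - 1 = r + 1 := rfl
        rw [h4] at htot
        nlinarith
      exact Nat.eq_of_mul_eq_mul_left (Nat.succ_pos r) h3
    · have h3 := (FiniteField.isSquare_neg_one_iff (F := F)).1 ⟨i, hi.symm⟩
      have h4 : Fintype.card F % 2 = 1 :=
        FiniteField.odd_card_of_char_ne_two (Cfsg.Agent.ClassicalGeometry.Universal.ringChar_ne_two h2)
      rw [Nat.card_eq_fintype_card]
      omega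
  · right
    have h0 : Nat.card {p : F × F // p.1 * p.1 + p.2 * p.2 = 0} = 1 := by
      rw [Nat.card_eq_one_iff_unique]
      refine ⟨⟨?_⟩, ⟨⟨(0, 0), by simp⟩⟩⟩
      have key : ∀ p : {p : F × F // p.1 * p.1 + p.2 * p.2 = 0}, p.1 = (0, 0) := by
        rintro ⟨⟨x, y⟩, h⟩
        change x * x + y * y = 0 at h
        have hx : x = 0 := by
          by_contra hx
          apply hi
          refine ⟨y / x, ?_⟩
          field_simp
          linear_combination h
        subst hx
        have hy : y = 0 := mul_self_eq_zero.1 (by linear_combination h)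
        subst hy
        rfl
      intro p p'
      exact Subtype.ext ((key p).trans (key p').symm)
    constructor
    · obtain ⟨r, hr⟩ : ∃ r, Nat.card F = r + 2 := ⟨Nat.card F - 2, by omega⟩
      rw [hr, h0] at htot
      rw [hr]
      have h3 : (r + 1) * (Nat.card (Circle F)) = (r + 1) * (r + 2 + 1) := by
        have h4 : r + 2 - 1 = r + 1 := rfl
        rw [h4] at htot
        nlinarith
      exact Nat.eq_of_mul_eq_mul_left (Nat.succ_pos r) h3
    · have h3 : Fintype.card F % 4 = 3 := by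
        by_contra h
        apply hi
        obtain ⟨i, hi⟩ := (FiniteField.isSquare_neg_one_iff (F := F)).2 h
        exact ⟨i, hi.symm⟩
      rw [Nat.card_eq_fintype_card]
      exact h3

end Cfsg.Agent.FooteOrth.Wr

end

-- merged: Cfsg.Agent.FooteOrth.Signs
section

/-!
# Sign changes (helper17)

`qU d = ∑ d_j u_j²` on `Fin k → F`; `sgn` : the sign changes; `isPGroup_sgn`, `card_sgn`, `sgn_le_O`, `sgn_le_closure`.
-/

set_option autoImplicit false

namespace Cfsg.Agent.FooteOrth.Wr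

open QuadraticMap Cfsg Subgroup
open Cfsg.Agent.LieClassical.OrthCore Cfsg.Agent.LieClassical.OrthTrans

variable {F : Type*} [Field F] {k : ℕ}

/-- the form `∑ d_j u_j²` -/
noncomputable def qU (d : Fin k → F) : QuadraticForm F (Fin k → F) :=
  QuadraticMap.pi fun j => d j • QuadraticMap.sq

theorem qU_apply (d : Fin k → F) (u : Fin k → F) : qU d u = ∑ j, d j * (u j * u j) := by
  rw [qU, QuadraticMap.pi_apply]
  rfl

theorem polar_qU (d : Fin k → F) (u v : Fin k → F) : polar (qU d) u v = ∑ j, 2 * (d j * (u j * v j)) := by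
  rw [polar, qU_apply, qU_apply, qU_apply, ← Finset.sum_sub_distrib, ← Finset.sum_sub_distrib]
  refine Finset.sum_congr rfl fun j _ => ?_
  rw [Pi.add_apply]
  ring

theorem qU_single (d : Fin k → F) (j : Fin k) : qU d (Pi.single j 1) = d j := by
  rw [qU_apply, Fintype.sum_eq_single j fun i hi => by rw [Pi.single_eq_of_ne hi]; ring, Pi.single_eq_same]
  ring

theorem polar_qU_single (d : Fin k → F) (j : Fin k) (u : Fin k → F) :
    polar (qU d) (Pi.single j 1) u = 2 * (d j * u j) := by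
  rw [polar_qU, Fintype.sum_eq_single j fun i hi => by rw [Pi.single_eq_of_ne hi]; ring, Pi.single_eq_same]
  ring

/-- the sign changes -/
def sgn : (Fin k → ℤˣ) →* ((Fin k → F) ≃ₗ[F] (Fin k → F)) where
  toFun e := LinearEquiv.piCongrRight fun j => LinearEquiv.smulOfUnit (Units.map (Int.castRingHom F).toMonoidHom (e j))
  map_one' := by
    ext1 u
    funext j
    show (((1 : ℤˣ) : ℤ) : F) • u j = u j
    simp
  map_mul' e e' := by
    ext1 u
    funext j
    show (((e j * e' j : ℤˣ) : ℤ) : F) • u j = (((e j : ℤˣ) : ℤ) : F) • ((((e' j : ℤˣ) : ℤ) : F) • u j)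
    rw [smul_smul, Units.val_mul, Int.cast_mul]

theorem sgn_apply (e : Fin k → ℤˣ) (u : Fin k → F) (j : Fin k) : sgn e u j = ((e j : ℤ) : F) * u j := rfl

theorem sgn_injective (h2 : (2 : F) ≠ 0) : Function.Injective (sgn : (Fin k → ℤˣ) →* ((Fin k → F) ≃ₗ[F] (Fin k → F))) := by
  intro e e' h
  funext j
  have h1 := congrFun (DFunLike.congr_fun h (fun _ => (1 : F))) j
  rw [sgn_apply, sgn_apply, mul_one, mul_one] at h1
  have hneg : (1 : F) ≠ -1 := fun h => h2 (by linear_combination h)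
  rcases Int.units_eq_one_or (e j) with h3 | h3 <;> rcases Int.units_eq_one_or (e' j) with h4 | h4
  · rw [h3, h4]
  · rw [h3, h4] at h1
    exact (hneg (by simpa using h1)).elim
  · rw [h3, h4] at h1
    exact (hneg (by simpa using h1.symm)).elim
  · rw [h3, h4]

theorem card_sgn (h2 : (2 : F) ≠ 0) :
    Nat.card (sgn : (Fin k → ℤˣ) →* ((Fin k → F) ≃ₗ[F] (Fin k → F))).range = 2 ^ k := by
  rw [← Nat.card_congr (MonoidHom.ofInjective (sgn_injective h2)).toEquiv, Nat.card_fun, Nat.card_fin,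
    Nat.card_eq_fintype_card]
  rfl

theorem isPGroup_sgn (h2 : (2 : F) ≠ 0) :
    IsPGroup 2 (sgn : (Fin k → ℤˣ) →* ((Fin k → F) ≃ₗ[F] (Fin k → F))).range :=
  IsPGroup.of_card (card_sgn h2)

theorem sgn_le_O (d : Fin k → F) : (sgn : (Fin k → ℤˣ) →* ((Fin k → F) ≃ₗ[F] (Fin k → F))).range ≤ O (qU d) := by
  rintro _ ⟨e, rfl⟩ u
  rw [qU_apply, qU_apply]
  refine Finset.sum_congr rfl fun j _ => ?_
  rw [sgn_apply]
  rcases Int.units_eq_one_or (e j) with h3 | h3 <;> rw [h3] <;> simp

theorem sgn_single (d : Fin k → F) (j : Fin k) (hd : qU d (Pi.single j 1) ≠ 0) :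
    sgn (Pi.mulSingle j (-1)) = refl (qU d) (Pi.single j 1) hd := by
  ext1 u
  rw [refl_apply, polar_qU_single, qU_single]
  rw [qU_single] at hd
  funext i
  rw [sgn_apply]
  show _ = u i - ((d j)⁻¹ * (2 * (d j * u j))) • (Pi.single j (1 : F) : Fin k → F) i
  by_cases hi : i = j
  · subst hi
    rw [Pi.mulSingle_eq_same, Pi.single_eq_same, smul_eq_mul, mul_one]
    field_simp
    push_cast
    ring
  · rw [Pi.mulSingle_eq_of_ne hi, Pi.single_eq_of_ne hi, smul_zero, sub_zero]
    simp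

theorem sgn_le_closure {d : Fin k → F} (hd : ∀ j, d j ≠ 0) :
    (sgn : (Fin k → ℤˣ) →* ((Fin k → F) ≃ₗ[F] (Fin k → F))).range ≤
      closure {r | r ∈ (sgn : (Fin k → ℤˣ) →* ((Fin k → F) ≃ₗ[F] (Fin k → F))).range ∧ r ∈ reflSet (qU d)} := by
  rw [MonoidHom.range_eq_map, ← Subgroup.pi_top (f := fun _ : Fin k => ℤˣ) Set.univ, map_le_iff_le_comap,
    Subgroup.pi_le_iff]
  rintro j _ ⟨e, -, rfl⟩
  rcases Int.units_eq_one_or e with h | h
  · rw [h, map_one]
    exact one_mem _
  · have hq : qU d (Pi.single j 1) ≠ 0 := by rw [qU_single]; exact hd j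
    have e1 := sgn_single d j hq
    rw [h]
    refine subset_closure ⟨⟨_, ?_, rfl⟩, ?_⟩
    · rw [Subgroup.pi_top]
      trivial
    · show sgn (Pi.mulSingle j (-1)) ∈ _
      rw [e1]
      exact ⟨_, hq, rfl⟩

end Cfsg.Agent.FooteOrth.Wr

end

-- merged: Cfsg.Agent.FooteOrth.Diag
section

/-!
# The model of a nondegenerate form over a finite field of odd order (helper17)

`exists_model` : `V ≃ (Fin m → F × F) × (Fin k → F)` with `Q = ∑ (x_i² + y_i²) + ∑ d_j u_j²`, `k ≤ 2`, and for `k = 2`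
`d = (1, nonsquare)`.
-/

set_option autoImplicit false

namespace Cfsg.Agent.FooteOrth.Wr

open QuadraticMap Cfsg
open Cfsg.Agent.LieClassical.OrthCore Cfsg.Agent.LieClassical.OrthTrans
open Cfsg.Agent.GenOrth

universe v

variable {F : Type*} [Field F] {V : Type v} [AddCommGroup V] [Module F V] {Q : QuadraticForm F V}

/-- `Q` is the sum of `m` planes and `k` lines -/
def Has (Q : QuadraticForm F V) (m k : ℕ) (d : Fin k → F) : Prop :=
  ∃ L : ((Fin m → F × F) × (Fin k → F)) ≃ₗ[F] V, ∀ x, Q (L x) = QM m (qW F) (qU d) x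

/-- splitting off the first plane -/
def consEquiv (F : Type*) [Field F] (m k : ℕ) :
    ((Fin (m + 1) → F × F) × (Fin k → F)) ≃ₗ[F] (((Fin m → F × F) × (Fin k → F)) × (F × F)) where
  toFun x := ((fun i => x.1 i.succ, x.2), x.1 0)
  invFun y := (Fin.cons y.2 y.1.1, y.1.2)
  map_add' x y := rfl
  map_smul' c x := rfl
  left_inv x := by
    refine Prod.ext ?_ rfl
    funext i
    refine Fin.cases ?_ (fun j => ?_) i
    · rfl
    · rfl
  right_inv y := rfl

theorem Has.step (h2 : (2 : F) ≠ 0) {x y : V} (hx : Q x = 1) (hy : Q y = 1) (hxy : polar Q x y = 0) {m k : ℕ}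
    {d : Fin k → F} (h : Has (restr Q ((2 * Q x)⁻¹ • polarBilin Q x) ((2 * Q y)⁻¹ • polarBilin Q y)) m k d) :
    Has Q (m + 1) k d := by
  obtain ⟨L, hL⟩ := h
  have hx0 : Q x ≠ 0 := by rw [hx]; exact one_ne_zero
  have hy0 : Q y ≠ 0 := by rw [hy]; exact one_ne_zero
  have hs := split_of_perp h2 hx0 hy0 hxy
  refine ⟨((consEquiv F m k).trans (L.prodCongr (LinearEquiv.refl F (F × F)))).trans (splitEquiv hs), fun z => ?_⟩
  have h3 := Q_splitEquiv hs (L (fun i => z.1 i.succ, z.2)) (z.1 0).1 (z.1 0).2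
  have h4 := hL (fun i => z.1 i.succ, z.2)
  rw [restr_apply] at h4
  refine Eq.trans h3 ?_
  rw [h4, hx, hy, hxy, QM_apply, QM_apply, Fin.sum_univ_succ, qW_apply (z.1 0)]
  ring

theorem has_zero [Module.Finite F V] (hd : Module.finrank F V = 0) : Has Q 0 0 (fun _ => 0) := by
  have hs : Subsingleton V := Module.finrank_zero_iff.1 hd
  refine ⟨{ toFun := fun _ => 0, invFun := fun _ => 0, map_add' := fun _ _ => (add_zero _).symm,
            map_smul' := fun _ _ => (smul_zero _).symm, left_inv := fun _ => Subsingleton.elim _ _,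
            right_inv := fun _ => Subsingleton.elim _ _ }, fun x => ?_⟩
  rw [QM_apply, qU_apply]
  show Q 0 = _
  simp

theorem has_one [Module.Finite F V] (hQ : Nondeg Q) (hd : Module.finrank F V = 1) :
    ∃ c : F, c ≠ 0 ∧ Has Q 0 1 (fun _ => c) := by
  obtain ⟨v, hv0, hv⟩ := finrank_eq_one_iff'.1 hd
  have hvQ : Q v ≠ 0 := by
    intro h
    apply hv0
    apply hQ
    intro y
    obtain ⟨c, rfl⟩ := hv y
    rw [polar_smul_right, polar_self', h]
    simp
  refine ⟨Q v, hvQ, ?_⟩
  let f : ((Fin 0 → F × F) × (Fin 1 → F)) →ₗ[F] V :=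
    { toFun := fun x => x.2 0 • v
      map_add' := fun x y => add_smul _ _ _
      map_smul' := fun c x => by
        show (c * x.2 0) • v = c • (x.2 0 • v)
        rw [mul_smul] }
  have hf : Function.Bijective f := by
    constructor
    · intro x y h
      have h1 : x.2 0 • v = y.2 0 • v := h
      have h3 : x.2 0 = y.2 0 := by
        have h4 : (x.2 0 - y.2 0) • v = 0 := by rw [sub_smul, h1, sub_self]
        exact sub_eq_zero.1 ((smul_eq_zero.1 h4).resolve_right hv0)
      refine Prod.ext (Subsingleton.elim _ _) (funext fun j => ?_)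
      rw [Subsingleton.elim j 0]
      exact h3
    · intro y
      obtain ⟨c, rfl⟩ := hv y
      exact ⟨(fun i => i.elim0, fun _ => c), rfl⟩
  refine ⟨LinearEquiv.ofBijective f hf, fun x => ?_⟩
  show Q (x.2 0 • v) = _
  rw [QM_apply, qU_apply, QuadraticMap.map_smul]
  simp
  ring

theorem exists_one [Finite F] (h2 : (2 : F) ≠ 0) (hQ : Nondeg Q) (hd : 2 ≤ Module.finrank F V) : ∃ a, Q a = 1 := by
  obtain ⟨a, -, ha⟩ := exists_norm_mem (Q := Q) h2 (⊤ : Submodule F V) (fun x _ h => hQ x fun y => h y trivial)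
    (by rw [finrank_top]; exact hd) 1
  exact ⟨a, ha⟩

/-- the orthogonal complement of a nonsingular vector -/
theorem perp_facts [Module.Finite F V] (h2 : (2 : F) ≠ 0) (hQ : Nondeg Q) {a : V} (ha : Q a ≠ 0) :
    (∀ x ∈ LinearMap.ker (polarBilin Q a), (∀ y ∈ LinearMap.ker (polarBilin Q a), polar Q x y = 0) → x = 0) ∧
      Module.finrank F (LinearMap.ker (polarBilin Q a)) + 1 = Module.finrank F V := by
  constructor
  · intro x hx h
    apply hQ
    intro y
    have hxa : polar Q a x = 0 := hx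
    have hy' : y - (polar Q a y / (2 * Q a)) • a ∈ LinearMap.ker (polarBilin Q a) := by
      show polar Q a (y - (polar Q a y / (2 * Q a)) • a) = 0
      rw [polar_sub_right, polar_smul_right, polar_self', smul_eq_mul, div_mul_cancel₀ _ (mul_ne_zero h2 ha), sub_self]
    have h3 := h _ hy'
    rw [polar_sub_right, polar_smul_right, polar_comm Q x a, hxa, smul_zero, sub_zero] at h3
    exact h3
  · have h1 := LinearMap.finrank_range_add_finrank_ker (polarBilin Q a)
    have h3 : Module.finrank F (LinearMap.range (polarBilin Q a)) = 1 := by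
      have h4 : LinearMap.range (polarBilin Q a) = ⊤ := by
        rw [LinearMap.range_eq_top]
        intro c
        refine ⟨(c / (2 * Q a)) • a, ?_⟩
        show polar Q a ((c / (2 * Q a)) • a) = c
        rw [polar_smul_right, polar_self', smul_eq_mul, div_mul_cancel₀ _ (mul_ne_zero h2 ha)]
      rw [h4, finrank_top, Module.finrank_self]
    omega

theorem has_two [Module.Finite F V] (h2 : (2 : F) ≠ 0) (hd : Module.finrank F V = 2) {a b : V} (ha : Q a = 1)
    (hb : Q b ≠ 0) (hab : polar Q a b = 0) : Has Q 0 2 ![1, Q b] := by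
  have ha0 : Q a ≠ 0 := by rw [ha]; exact one_ne_zero
  have hba : polar Q b a = 0 := by rw [polar_comm]; exact hab
  let f : ((Fin 0 → F × F) × (Fin 2 → F)) →ₗ[F] V :=
    { toFun := fun x => x.2 0 • a + x.2 1 • b
      map_add' := fun x y => by
        show (x.2 0 + y.2 0) • a + (x.2 1 + y.2 1) • b = _
        module
      map_smul' := fun c x => by
        show (c * x.2 0) • a + (c * x.2 1) • b = c • (x.2 0 • a + x.2 1 • b)
        module }
  have hinj : Function.Injective f := by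
    rw [← LinearMap.ker_eq_bot, LinearMap.ker_eq_bot']
    intro x hx
    have h1 : x.2 0 • a + x.2 1 • b = 0 := hx
    have h3 : polar Q a (x.2 0 • a + x.2 1 • b) = 0 := by rw [h1, polar_zero_right]
    have h4 : polar Q b (x.2 0 • a + x.2 1 • b) = 0 := by rw [h1, polar_zero_right]
    rw [polar_add_right, polar_smul_right, polar_smul_right, hab, polar_self', ha] at h3
    rw [polar_add_right, polar_smul_right, polar_smul_right, hba, polar_self'] at h4
    simp only [smul_eq_mul, mul_one, mul_zero, add_zero, zero_add] at h3 h4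
    have h5 : x.2 0 = 0 := (mul_eq_zero.1 h3).resolve_right h2
    have h6 : x.2 1 = 0 := (mul_eq_zero.1 h4).resolve_right (mul_ne_zero h2 hb)
    refine Prod.ext (Subsingleton.elim _ _) (funext fun j => ?_)
    fin_cases j
    · exact h5
    · exact h6
  have hdim : Module.finrank F ((Fin 0 → F × F) × (Fin 2 → F)) = Module.finrank F V := by
    rw [hd, Module.finrank_prod, Module.finrank_fin_fun, Module.finrank_zero_of_subsingleton]
  have hf : Function.Bijective f := ⟨hinj, (LinearMap.injective_iff_surjective_of_finrank_eq_finrank hdim).1 hinj⟩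
  refine ⟨LinearEquiv.ofBijective f hf, fun x => ?_⟩
  show Q (x.2 0 • a + x.2 1 • b) = _
  rw [QM_apply, qU_apply, Q_add, QuadraticMap.map_smul, QuadraticMap.map_smul, polar_smul_left, polar_smul_right, hab, ha]
  simp [Fin.sum_univ_two]
  ring

/-- **The model.** -/
theorem exists_model [Finite F] (h2 : (2 : F) ≠ 0) : ∀ (n : ℕ) {V : Type v} [AddCommGroup V] [Module F V]
    [Module.Finite F V] {Q : QuadraticForm F V}, Nondeg Q → Module.finrank F V = n →
    ∃ (m k : ℕ) (d : Fin k → F), Has Q m k d ∧ n = 2 * m + k ∧ (∀ j, d j ≠ 0) ∧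
      (k = 0 ∨ k = 1 ∨ ∃ c : F, ¬ IsSquare c ∧ ∃ _ : k = 2, ∀ j, d j = if (j : ℕ) = 0 then 1 else c) := by
  intro n
  induction n using Nat.strong_induction_on with
  | _ n ih =>
    intro V _ _ _ Q hQ hd
    -- the inductive step
    have step : ∀ a b : V, Q a = 1 → Q b = 1 → polar Q a b = 0 →
        ∃ (m k : ℕ) (d : Fin k → F), Has Q m k d ∧ n = 2 * m + k ∧ (∀ j, d j ≠ 0) ∧
          (k = 0 ∨ k = 1 ∨ ∃ c : F, ¬ IsSquare c ∧ ∃ _ : k = 2, ∀ j, d j = if (j : ℕ) = 0 then 1 else c) := by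
      intro a b ha hb hab
      have hs := split_of_perp h2 (by rw [ha]; exact one_ne_zero : Q a ≠ 0) (by rw [hb]; exact one_ne_zero : Q b ≠ 0) hab
      have h3 := finrank_Comp hs
      obtain ⟨m, k, d, h4, h5, h6, h7⟩ := ih (n - 2) (by omega) (nondeg_restr hQ hs) (by omega)
      exact ⟨m + 1, k, d, h4.step h2 ha hb hab, by omega, h6, h7⟩
    rcases Nat.lt_or_ge n 3 with h3 | h3
    · interval_cases n
      · exact ⟨0, 0, fun _ => 0, has_zero hd, rfl, fun j => j.elim0, Or.inl rfl⟩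
      · obtain ⟨c, hc, h⟩ := has_one hQ hd
        exact ⟨0, 1, fun _ => c, h, rfl, fun _ => hc, Or.inr (Or.inl rfl)⟩
      · obtain ⟨a, ha⟩ := exists_one h2 hQ (by omega)
        have ha0 : Q a ≠ 0 := by rw [ha]; exact one_ne_zero
        obtain ⟨h4, h5⟩ := perp_facts h2 hQ ha0
        obtain ⟨b, hb, hb0⟩ : ∃ b ∈ LinearMap.ker (polarBilin Q a), Q b ≠ 0 := by
          by_contra h
          push Not at h
          have h6 : LinearMap.ker (polarBilin Q a) = ⊥ := by
            rw [eq_bot_iff]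
            intro x hx
            refine (Submodule.mem_bot F).2 (h4 x hx fun y hy => ?_)
            rw [polar, h _ (Submodule.add_mem _ hx hy), h x hx, h y hy]
            ring
          rw [h6, finrank_bot] at h5
          omega
        have hab : polar Q a b = 0 := hb
        by_cases hsq : IsSquare (Q b)
        · obtain ⟨s, hs⟩ := hsq
          have hs0 : s ≠ 0 := by
            rintro rfl
            rw [mul_zero] at hs
            exact hb0 hs
          refine step a (s⁻¹ • b) ha ?_ ?_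
          · rw [QuadraticMap.map_smul, hs, smul_eq_mul]
            field_simp
          · rw [polar_smul_right, hab, smul_zero]
        · refine ⟨0, 2, ![1, Q b], has_two h2 hd ha hb0 hab, rfl, ?_, Or.inr (Or.inr ⟨Q b, hsq, rfl, ?_⟩)⟩
          · intro j
            fin_cases j
            · exact one_ne_zero
            · exact hb0
          · intro j
            fin_cases j <;> rfl
    · obtain ⟨a, ha⟩ := exists_one h2 hQ (by omega)
      have ha0 : Q a ≠ 0 := by rw [ha]; exact one_ne_zero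
      obtain ⟨h4, h5⟩ := perp_facts h2 hQ ha0
      obtain ⟨b, hb, hb1⟩ := exists_norm_mem h2 _ h4 (by omega) 1
      exact step a b ha hb1 hb

end Cfsg.Agent.FooteOrth.Wr

end

-- merged: Cfsg.Agent.FooteOrth.Model
section

/-!
# The row of `POmega F Q` from the model and the order of `O Q` (helper17)

`closedRow_of_has` : `Has Q m k d` and `v₂ |O Q| ≤ m v₂(q² - 1) + k + v₂(m!)` imply `ClosedRow (POmega F Q)`.
-/

set_option autoImplicit false

namespace Cfsg.Agent.FooteOrth

open QuadraticMap Cfsg Subgroup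
open Cfsg.Agent.LieClassical.OrthCore Cfsg.Agent.LieClassical.OrthTrans
open Cfsg.Agent.ClosedTwo.Elem
open Cfsg.Agent.FooteOrth.Wr

variable {F : Type*} [Field F] [Finite F]

/-- the 2-part of `|O(qW)|` -/
theorem val_O_qW (h2 : (2 : F) ≠ 0) :
    (Nat.card (O (qW F))).factorization 2 = (Nat.card F ^ 2 - 1).factorization 2 := by
  have hcard : Nat.card (O (qW F)) = 2 * Nat.card (Circle F) := by
    rcases card_O_qW h2 with h | h
    · rw [h, two_mul]
    · exact (not_finite (Circle F)).elim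
  have hc0 : Nat.card (Circle F) ≠ 0 := by
    have : Nonempty (Circle F) := ⟨⟨(1, 0), by simp⟩⟩
    exact Nat.card_pos.ne'
  have hq1 : 1 < Nat.card F := Finite.one_lt_card
  have hsq : Nat.card F ^ 2 - 1 = (Nat.card F + 1) * (Nat.card F - 1) := by
    have := Nat.sq_sub_sq (Nat.card F) 1
    rwa [one_pow] at this
  have two_mod : ∀ x : ℕ, x % 4 = 2 → x.factorization 2 = 1 := by
    intro x hx
    obtain ⟨y, hy⟩ : ∃ y, x = 2 * y := ⟨x / 2, by omega⟩
    have hy2 : ¬ 2 ∣ y := by omega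
    have hy0 : y ≠ 0 := by omega
    rw [hy, Nat.factorization_mul two_ne_zero hy0, Finsupp.add_apply, Nat.Prime.factorization_self Nat.prime_two,
      Nat.factorization_eq_zero_of_not_dvd hy2]
  rw [hcard, hsq, Nat.factorization_mul two_ne_zero hc0, Finsupp.add_apply, Nat.Prime.factorization_self Nat.prime_two,
    Nat.factorization_mul (by omega) (by omega), Finsupp.add_apply]
  rcases card_circle h2 with ⟨h3, h4⟩ | ⟨h3, h4⟩
  · have e : Nat.card F - 1 = Nat.card (Circle F) := by omega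
    rw [e, two_mod (Nat.card F + 1) (by omega)]
  · rw [← h3, two_mod (Nat.card F - 1) (by omega), add_comm]

variable {ι : Type} [Fintype ι] [DecidableEq ι] {Q : QuadraticForm F (ι → F)}

theorem closedRow_of_has (hG : Good Q) (hd : 7 ≤ Module.finrank F (ι → F)) (h2 : (2 : F) ≠ 0) {m k : ℕ} {d : Fin k → F}
    (h : Has Q m k d) (hd0 : ∀ j, d j ≠ 0)
    (hcard : (Nat.card (O Q)).factorization 2 ≤
      m * (Nat.card F ^ 2 - 1).factorization 2 + k + (m.factorial).factorization 2) :
    ClosedRow (Cfsg.POmega F ⇑Q) := by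
  have hp : Fact (Nat.Prime 2) := ⟨Nat.prime_two⟩
  have hfinV : Finite (((Fin m → F × F) × (Fin k → F)) ≃ₗ[F] ((Fin m → F × F) × (Fin k → F))) := DFunLike.finite _
  obtain ⟨L, hL⟩ := h
  obtain ⟨D, hD2, hDO, hDc, hDcl⟩ := exists_D h2
  obtain ⟨P⟩ : Nonempty (Sylow 2 (Equiv.Perm (Fin m))) := inferInstance
  obtain ⟨T0, hT0⟩ : ∃ T0, T0 = (sgn : (Fin k → ℤˣ) →* ((Fin k → F) ≃ₗ[F] (Fin k → F))).range := ⟨_, rfl⟩
  have hT2 : IsPGroup 2 T0 := by rw [hT0]; exact isPGroup_sgn h2
  have hTc : Nat.card T0 = 2 ^ k := by rw [hT0]; exact card_sgn h2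
  have hTO : T0 ≤ O (qU d) := by rw [hT0]; exact sgn_le_O d
  have hTcl : T0 ≤ closure {r | r ∈ T0 ∧ r ∈ reflSet (qU d)} := by
    have := sgn_le_closure hd0
    rw [← hT0] at this
    exact this
  have hQL : ∀ v, Q (L v) = QM m (qW F) (qU d) v := hL
  obtain ⟨R, hR⟩ : ∃ R : Subgroup (((Fin m → F × F) × (Fin k → F)) ≃ₗ[F] ((Fin m → F × F) × (Fin k → F))),
    R = TT D T0 (P : Subgroup (Equiv.Perm (Fin m))) := ⟨_, rfl⟩
  have hR2 : IsPGroup 2 R := by rw [hR]; exact isPGroup_TT hD2 hT2 P.isPGroup'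
  have hRO : R ≤ O (QM m (qW F) (qU d)) := by rw [hR]; exact TT_le_O hDO hTO
  have hRc := card_le_TT (F := F) (W := F × F) (U := Fin k → F) (D := D) (T := T0) (P := (P : Subgroup (Equiv.Perm (Fin m))))
  rw [← hR, hDc, hTc, P.card_eq_multiplicity, val_O_qW h2, Nat.card_perm, Nat.card_fin, ← pow_mul, ← pow_add,
    ← pow_add] at hRc
  have hRgen := TT_eq_closure (P := (P : Subgroup (Equiv.Perm (Fin m)))) hDcl hTcl
  rw [← hR] at hRgen
  have hcR : Nat.card (R.map (conjL L).toMonoidHom) = Nat.card R := card_map_of_injective (conjL L).injective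
  have h3 : ∀ r ∈ reflSet (QM m (qW F) (qU d)), conjL L r ∈ reflSet Q := by
    rintro _ ⟨v, hv, rfl⟩
    have hv' : Q (L v) ≠ 0 := by rw [hQL]; exact hv
    exact ⟨L v, hv', conjL_refl hQL hv hv'⟩
  refine closedRow_of_sylow (T := R.map (conjL L).toMonoidHom)
    (M := ⇑(conjL L) '' (((P : Subgroup (Equiv.Perm (Fin m))).map rho :
      Subgroup (((Fin m → F × F) × (Fin k → F)) ≃ₗ[F] ((Fin m → F × F) × (Fin k → F)))) :
      Set (((Fin m → F × F) × (Fin k → F)) ≃ₗ[F] ((Fin m → F × F) × (Fin k → F))))) hG hd h2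
    (hR2.map _) ?_ ?_ ?_ ?_
  · rintro _ ⟨g, hg, rfl⟩
    exact conjL_mem_O hQL (hRO hg)
  · rintro _ ⟨_, ⟨π, hπ, rfl⟩, rfl⟩
    obtain ⟨n, hn⟩ := P.isPGroup' ⟨π, hπ⟩
    exact PX.transport hQL (px_rho h2 (basis2 h2) (n := n) (congrArg Subtype.val hn))
  · apply le_antisymm
    · rw [map_le_iff_le_comap]
      nth_rewrite 1 [hRgen]
      rw [closure_le]
      rintro x (hx | ⟨hx, hx'⟩)
      · exact subset_closure (Or.inl ⟨x, hx, rfl⟩)
      · exact subset_closure (Or.inr ⟨⟨x, hx, rfl⟩, h3 x hx'⟩)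
    · rw [closure_le]
      rintro _ (⟨x, hx, rfl⟩ | ⟨hx, -⟩)
      · refine ⟨x, ?_, rfl⟩
        rw [hR]
        exact (le_sup_right : Subgroup.map rho (P : Subgroup (Equiv.Perm (Fin m))) ≤ TT D T0 _) hx
      · exact hx
  · rw [hcR]
    obtain ⟨n, hn⟩ := IsPGroup.iff_card.1 hR2
    rw [hn] at hRc ⊢
    rw [Nat.Prime.factorization_pow Nat.prime_two, Finsupp.single_eq_same]
    have h4 := (Nat.pow_le_pow_iff_right (by norm_num : 1 < 2)).1 hRc
    refine hcard.trans (le_trans (le_of_eq ?_) h4)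
    ring

end Cfsg.Agent.FooteOrth

end

-- merged: Cfsg.Agent.FooteOrth.Rows
section

/-!
# S1252: the simple orthogonal groups over fields of odd order (helper17)

* `closedRow_odd`, `closedRow_plus`, `closedRow_minus`;
* `closedRow_isPOmegaOdd`, `closedRow_isPOmegaPlus`, `closedRow_isPOmegaMinus`.
-/

set_option autoImplicit false

namespace Cfsg.Agent.FooteOrth

open QuadraticMap Cfsg Subgroup
open Cfsg.Agent.LieClassical.OrthCore Cfsg.Agent.LieClassical.OrthTrans Cfsg.Agent.LieClassical.OrthFinite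
open Cfsg.Agent.LieClassical.OrthForms
open Cfsg.Agent.ClosedTwo.Elem
open Cfsg.Agent.FooteOrth.Wr
open Cfsg.Agent.ClassicalGeometry.OrthSemiForms (good_plus good_minus good_odd card_O)

/-! ### Arithmetic -/

theorem fact_two (x : ℕ) : x.factorization 2 = padicValNat 2 x := Nat.factorization_def x Nat.prime_two

/-- `v₂(q^(2i) - 1) = v₂(q² - 1) + v₂(i)` -/
theorem val_pow {q : ℕ} (hq : q % 2 = 1) (hq1 : 1 < q) {i : ℕ} (hi : i ≠ 0) :
    (q ^ (2 * i) - 1).factorization 2 = (q ^ 2 - 1).factorization 2 + i.factorization 2 := by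
  have hp : Fact (Nat.Prime 2) := ⟨Nat.prime_two⟩
  have h1 := padicValNat.pow_two_sub_pow (x := q) (y := 1) hq1 (by omega) (by omega) (n := 2 * i) (by omega)
    ⟨i, by ring⟩
  have h2 := padicValNat.pow_two_sub_pow (x := q) (y := 1) hq1 (by omega) (by omega) (n := 2) (by omega)
    ⟨1, by ring⟩
  rw [one_pow] at h1 h2
  rw [padicValNat.mul two_ne_zero hi, padicValNat.self (by norm_num : 1 < 2)] at h1
  rw [padicValNat.self (by norm_num : 1 < 2)] at h2
  rw [fact_two, fact_two, fact_two]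
  omega

theorem val_prod {q : ℕ} (hq : q % 2 = 1) (hq1 : 1 < q) (n : ℕ) :
    (∏ i ∈ Finset.range n, (q ^ (2 * (i + 1)) - 1)).factorization 2 =
      n * (q ^ 2 - 1).factorization 2 + (n.factorial).factorization 2 := by
  induction n with
  | zero => simp
  | succ n ih =>
    have hne : ∀ i : ℕ, q ^ (2 * (i + 1)) - 1 ≠ 0 := by
      intro i
      have : q ^ 1 ≤ q ^ (2 * (i + 1)) := Nat.pow_le_pow_right (by omega) (by omega)
      rw [pow_one] at this
      omega
    rw [Finset.prod_range_succ, Nat.factorization_mul (Finset.prod_ne_zero_iff.2 fun i _ => hne i) (hne n),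
      Finsupp.add_apply, ih, val_pow hq hq1 (Nat.succ_ne_zero n), Nat.factorial_succ,
      Nat.factorization_mul (Nat.succ_ne_zero n) (Nat.factorial_ne_zero n), Finsupp.add_apply]
    ring

theorem val_odd_pow {q : ℕ} (hq : q % 2 = 1) (n : ℕ) : (q ^ n).factorization 2 = 0 := by
  apply Nat.factorization_eq_zero_of_not_dvd
  intro h
  have := Nat.Prime.dvd_of_dvd_pow Nat.prime_two h
  omega

theorem val_two_mod {x : ℕ} (hx : x % 4 = 2) : x.factorization 2 = 1 := by
  obtain ⟨y, hy⟩ : ∃ y, x = 2 * y := ⟨x / 2, by omega⟩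
  have hy2 : ¬ 2 ∣ y := by omega
  have hy0 : y ≠ 0 := by omega
  rw [hy, Nat.factorization_mul two_ne_zero hy0, Finsupp.add_apply, Nat.Prime.factorization_self Nat.prime_two,
    Nat.factorization_eq_zero_of_not_dvd hy2]

/-- the even-dimensional case, no line: `n = q^M ± 1`, `n' = q^M ∓ 1` -/
theorem val_even_zero {q : ℕ} (hq : q % 2 = 1) (hq1 : 1 < q) {M : ℕ} (hM : 1 ≤ M) {n n' : ℕ}
    (hn : n * n' = q ^ (2 * M) - 1) (hn2 : 2 ∣ n') :
    (2 * q ^ (M * (M - 1)) * n * ∏ i ∈ Finset.range (M - 1), (q ^ (2 * (i + 1)) - 1)).factorization 2 ≤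
      M * (q ^ 2 - 1).factorization 2 + 0 + (M.factorial).factorization 2 := by
  have h0 : q ^ (2 * M) - 1 ≠ 0 := by
    have : q ^ 1 ≤ q ^ (2 * M) := Nat.pow_le_pow_right (by omega) (by omega)
    rw [pow_one] at this
    omega
  have hn0 : n ≠ 0 := by
    rintro rfl
    rw [zero_mul] at hn
    exact h0 hn.symm
  have hn'0 : n' ≠ 0 := by
    rintro rfl
    rw [mul_zero] at hn
    exact h0 hn.symm
  have hne : ∀ i : ℕ, q ^ (2 * (i + 1)) - 1 ≠ 0 := by
    intro i
    have : q ^ 1 ≤ q ^ (2 * (i + 1)) := Nat.pow_le_pow_right (by omega) (by omega)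
    rw [pow_one] at this
    omega
  have hqn : q ^ (M * (M - 1)) ≠ 0 := pow_ne_zero _ (by omega)
  have h1 := val_pow hq hq1 (i := M) (by omega)
  rw [← hn, Nat.factorization_mul hn0 hn'0, Finsupp.add_apply] at h1
  have h3 : 1 ≤ n'.factorization 2 :=
    (Nat.Prime.dvd_iff_one_le_factorization Nat.prime_two hn'0).1 hn2
  rw [Nat.factorization_mul (mul_ne_zero (mul_ne_zero two_ne_zero hqn) hn0)
    (Finset.prod_ne_zero_iff.2 fun i _ => hne i), Nat.factorization_mul (mul_ne_zero two_ne_zero hqn) hn0,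
    Nat.factorization_mul two_ne_zero hqn, Finsupp.add_apply, Finsupp.add_apply, Finsupp.add_apply,
    val_prod hq hq1, val_odd_pow hq, Nat.Prime.factorization_self Nat.prime_two]
  obtain ⟨r, rfl⟩ : ∃ r, M = r + 1 := ⟨M - 1, by omega⟩
  rw [Nat.factorial_succ, Nat.factorization_mul (Nat.succ_ne_zero r) (Nat.factorial_ne_zero r), Finsupp.add_apply,
    Nat.add_sub_cancel]
  nlinarith

/-- the even-dimensional case, two lines -/
theorem val_even_two {q : ℕ} (hq : q % 2 = 1) (hq1 : 1 < q) {m : ℕ} {n : ℕ} (hn : n % 4 = 2) :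
    (2 * q ^ ((m + 1) * m) * n * ∏ i ∈ Finset.range m, (q ^ (2 * (i + 1)) - 1)).factorization 2 ≤
      m * (q ^ 2 - 1).factorization 2 + 2 + (m.factorial).factorization 2 := by
  have hn0 : n ≠ 0 := by omega
  have hne : ∀ i : ℕ, q ^ (2 * (i + 1)) - 1 ≠ 0 := by
    intro i
    have : q ^ 1 ≤ q ^ (2 * (i + 1)) := Nat.pow_le_pow_right (by omega) (by omega)
    rw [pow_one] at this
    omega
  have hqn : q ^ ((m + 1) * m) ≠ 0 := pow_ne_zero _ (by omega)
  rw [Nat.factorization_mul (mul_ne_zero (mul_ne_zero two_ne_zero hqn) hn0)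
    (Finset.prod_ne_zero_iff.2 fun i _ => hne i), Nat.factorization_mul (mul_ne_zero two_ne_zero hqn) hn0,
    Nat.factorization_mul two_ne_zero hqn, Finsupp.add_apply, Finsupp.add_apply, Finsupp.add_apply,
    val_prod hq hq1, val_odd_pow hq, Nat.Prime.factorization_self Nat.prime_two, val_two_mod hn]
  omega

theorem val_odd {q : ℕ} (hq : q % 2 = 1) (hq1 : 1 < q) (m : ℕ) :
    (2 * q ^ (m ^ 2) * ∏ i ∈ Finset.range m, (q ^ (2 * (i + 1)) - 1)).factorization 2 ≤
      m * (q ^ 2 - 1).factorization 2 + 1 + (m.factorial).factorization 2 := by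
  have hne : ∀ i : ℕ, q ^ (2 * (i + 1)) - 1 ≠ 0 := by
    intro i
    have : q ^ 1 ≤ q ^ (2 * (i + 1)) := Nat.pow_le_pow_right (by omega) (by omega)
    rw [pow_one] at this
    omega
  have hqn : q ^ (m ^ 2) ≠ 0 := pow_ne_zero _ (by omega)
  rw [Nat.factorization_mul (mul_ne_zero two_ne_zero hqn) (Finset.prod_ne_zero_iff.2 fun i _ => hne i),
    Nat.factorization_mul two_ne_zero hqn, Finsupp.add_apply, Finsupp.add_apply,
    val_prod hq hq1, val_odd_pow hq, Nat.Prime.factorization_self Nat.prime_two]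
  omega

/-! ### `-1` is not in `E Q` if the discriminant is not a square -/

section Neg

variable {F : Type*} [Field F] [Finite F] {ι : Type} [Fintype ι] [DecidableEq ι] {Q : QuadraticForm F (ι → F)}

theorem neg_not_mem (hG : Good Q) (h2 : (2 : F) ≠ 0) {m : ℕ} {d : Fin 2 → F} {c : F} (h : Has Q m 2 d)
    (hc : ¬ IsSquare c) (hd : ∀ j, d j = if (j : ℕ) = 0 then 1 else c) : LinearEquiv.neg F ∉ E Q := by
  classical
  intro hneg
  obtain ⟨L, hL⟩ := h
  have hQL : ∀ v, Q (L v) = QM m (qW F) (qU d) v := hL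
  have hc0 : c ≠ 0 := by
    rintro rfl
    exact hc IsSquare.zero
  have hd0 : d 0 = 1 := hd 0
  have hd1 : d 1 = c := hd 1
  -- the planes
  have hbase : base (zpowers (LinearEquiv.neg F : (F × F) ≃ₗ[F] (F × F))) (⊥ : Subgroup ((Fin 2 → F) ≃ₗ[F] (Fin 2 → F))) m ≤
      (E Q).comap (conjL L).toMonoidHom := by
    apply base_le
    · intro i e he
      have h3 : zpowers (LinearEquiv.neg F : (F × F) ≃ₗ[F] (F × F)) ≤
          ((E Q).comap (conjL L).toMonoidHom).comap ((psi.comp (MonoidHom.inl _ ((Fin 2 → F) ≃ₗ[F] (Fin 2 → F)))).comp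
            (MonoidHom.mulSingle (fun _ : Fin m => (F × F) ≃ₗ[F] (F × F)) i)) := by
        rw [zpowers_le]
        have hb := basis2 (F := F) h2
        have hq1 : qW F (1, 0) ≠ 0 := hb.pair.left
        have hq2 : qW F (0, 1) ≠ 0 := hb.pair.right
        have e1 : (LinearEquiv.neg F : (F × F) ≃ₗ[F] (F × F)) = refl (qW F) (1, 0) hq1 * refl (qW F) (0, 1) hq2 := by
          refine ext_W ?_ ?_
          · show -((1 : F), (0 : F)) = refl (qW F) (1, 0) hq1 (refl (qW F) (0, 1) hq2 (1, 0))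
            rw [Cfsg.Agent.GenOrth.refl_perp hq2 (by rw [polar_comm]; exact hb.pair.perp),
              Cfsg.Agent.GenOrth.refl_self hq1]
          · show -((0 : F), (1 : F)) = refl (qW F) (1, 0) hq1 (refl (qW F) (0, 1) hq2 (0, 1))
            rw [Cfsg.Agent.GenOrth.refl_self hq2, map_neg, Cfsg.Agent.GenOrth.refl_perp hq1 hb.pair.perp]
        have hQ1 : QM m (qW F) (qU d) (Pi.single i (1, 0), 0) ≠ 0 := by rw [QM_single]; exact hq1
        have hQ2 : QM m (qW F) (qU d) (Pi.single i (0, 1), 0) ≠ 0 := by rw [QM_single]; exact hq2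
        have hp : Pair (QM m (qW F) (qU d)) (Pi.single i ((1 : F), (0 : F)), 0) (Pi.single i ((0 : F), (1 : F)), 0) := by
          refine ⟨hQ1, hQ2, by rw [QM_single, QM_single]; exact hb.pair.eq, ?_⟩
          rw [polar_QM_single]
          show polar (qW F) (1, 0) ((Pi.single i ((0 : F), (1 : F)) : Fin m → F × F) i) = 0
          rw [Pi.single_eq_same]
          exact hb.pair.perp
        show conjL L (psi (Pi.mulSingle i (LinearEquiv.neg F), 1)) ∈ E Q
        have e2 : psi (Pi.mulSingle i (LinearEquiv.neg F : (F × F) ≃ₗ[F] (F × F)),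
            (1 : (Fin 2 → F) ≃ₗ[F] (Fin 2 → F))) = hp.t := by
          rw [Pair.t, ← psi_refl_left (qU := qU d) i hq1 hQ1, ← psi_refl_left (qU := qU d) i hq2 hQ2, ← map_mul, e1]
          congr 1
          refine Prod.ext ?_ ?_
          · show Pi.mulSingle i (_ * _) = Pi.mulSingle i _ * Pi.mulSingle i _
            rw [Pi.mulSingle_mul]
          · show (1 : (Fin 2 → F) ≃ₗ[F] (Fin 2 → F)) = 1 * 1
            rw [one_mul]
        rw [e2]
        obtain ⟨h', e3⟩ := hp.transport hQL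
        rw [e3]
        exact h'.mem_E hG
      exact h3 he
    · intro t ht
      rw [mem_bot] at ht
      rw [ht]
      have : psi ((1 : Fin m → ((F × F) ≃ₗ[F] (F × F))), (1 : (Fin 2 → F) ≃ₗ[F] (Fin 2 → F))) = 1 := map_one psi
      rw [this]
      exact one_mem _
  have h3 : conjL L (psi ((fun _ => LinearEquiv.neg F : Fin m → ((F × F) ≃ₗ[F] (F × F))),
      (1 : (Fin 2 → F) ≃ₗ[F] (Fin 2 → F)))) ∈ E Q :=
    hbase (psi_mem_base (fun _ => mem_zpowers _) (one_mem _))
  -- the two lines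
  have hu0 : qU d (Pi.single 0 1) ≠ 0 := by rw [qU_single, hd0]; exact one_ne_zero
  have hu1 : qU d (Pi.single 1 1) ≠ 0 := by rw [qU_single, hd1]; exact hc0
  have hv0 : QM m (qW F) (qU d) (0, Pi.single 0 1) ≠ 0 := by rw [QM_right]; exact hu0
  have hv1 : QM m (qW F) (qU d) (0, Pi.single 1 1) ≠ 0 := by rw [QM_right]; exact hu1
  have hw0 : Q (L (0, Pi.single 0 1)) ≠ 0 := by rw [hQL]; exact hv0
  have hw1 : Q (L (0, Pi.single 1 1)) ≠ 0 := by rw [hQL]; exact hv1
  have e4 : conjL L (psi ((1 : Fin m → ((F × F) ≃ₗ[F] (F × F))), (LinearEquiv.neg F : (Fin 2 → F) ≃ₗ[F] (Fin 2 → F)))) =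
      refl Q _ hw0 * refl Q _ hw1 := by
    rw [← conjL_refl hQL hv0 hw0, ← conjL_refl hQL hv1 hw1, ← map_mul, ← psi_refl_right (qW := qW F) hu0 hv0,
      ← psi_refl_right (qW := qW F) hu1 hv1, ← map_mul, ← sgn_single d 0 hu0, ← sgn_single d 1 hu1]
    congr 2
    refine Prod.ext ?_ ?_
    · show (1 : Fin m → ((F × F) ≃ₗ[F] (F × F))) = 1 * 1
      rw [one_mul]
    · show (LinearEquiv.neg F : (Fin 2 → F) ≃ₗ[F] (Fin 2 → F)) = sgn (Pi.mulSingle 0 (-1)) * sgn (Pi.mulSingle 1 (-1))
      rw [← map_mul]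
      ext1 u
      funext j
      rw [sgn_apply]
      fin_cases j
      · show -u 0 = _
        simp
      · show -u 1 = _
        simp
  have e5 : (LinearEquiv.neg F : (ι → F) ≃ₗ[F] (ι → F)) =
      conjL L (psi ((fun _ => LinearEquiv.neg F : Fin m → ((F × F) ≃ₗ[F] (F × F))),
        (1 : (Fin 2 → F) ≃ₗ[F] (Fin 2 → F)))) * (refl Q _ hw0 * refl Q _ hw1) := by
    rw [← e4, ← map_mul, ← map_mul]
    ext1 v
    obtain ⟨v, rfl⟩ := L.surjective v
    rw [conjL_apply]
    show -(L v) = L (-v.1, -v.2)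
    rw [← map_neg]
    rfl
  have h4 : refl Q _ hw0 * refl Q _ hw1 ∈ E Q := by
    rw [e5] at hneg
    have := (E Q).mul_mem ((E Q).inv_mem h3) hneg
    rwa [inv_mul_cancel_left] at this
  have h1 := ((mem_E_iff hG h2 ((O Q).mul_mem (refl_mem_O hw0) (refl_mem_O hw1))).1 h4).2
  have h5 : (⟨refl Q _ hw0 * refl Q _ hw1, (O Q).mul_mem (refl_mem_O hw0) (refl_mem_O hw1)⟩ : O Q) =
      ⟨refl Q _ hw0, refl_mem_O hw0⟩ * ⟨refl Q _ hw1, refl_mem_O hw1⟩ := rfl
  have hq0 : IsSquare (Q (L (0, Pi.single 0 1))) := by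
    rw [hQL, QM_right, qU_single, hd0]
    exact ⟨1, by ring⟩
  have hq1 : ¬ IsSquare (Q (L (0, Pi.single 1 1))) := by
    rw [hQL, QM_right, qU_single, hd1]
    exact hc
  rw [h5, map_mul, sg_refl h2, sg_refl h2, if_pos hq0, if_neg hq1] at h1
  exact absurd h1 (by decide)

omit [Finite F] in
/-- `-1` as a matrix -/
theorem neg_mem_of_matrix (hG : Good Q)
    (h : ∃ g : ↥(Cfsg.isometryGroup F ⇑Q), g ∈ Cfsg.Omega F ⇑Q ∧
      ((g : Matrix.GeneralLinearGroup ι F) : Matrix ι ι F) = -1) : LinearEquiv.neg F ∈ E Q := by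
  obtain ⟨g, hg, hg1⟩ := h
  have h3 : isometryHom Q g ∈ (Cfsg.Omega F ⇑Q).map (isometryHom Q) := ⟨g, hg, rfl⟩
  rw [map_Omega, hG.commutator_eq_E] at h3
  have e : isometryHom Q g = LinearEquiv.neg F := by
    ext1 v
    rw [isometryHom_apply, hg1, Matrix.neg_mulVec, Matrix.one_mulVec]
    rfl
  rwa [e] at h3

end Neg

/-! ### The rows -/

section Rows

variable {F : Type*} [Field F] [Fintype F]

theorem facts (h2 : (2 : F) ≠ 0) : Fintype.card F % 2 = 1 ∧ 1 < Fintype.card F ∧ Nat.card F = Fintype.card F :=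
  ⟨FiniteField.odd_card_of_char_ne_two (Cfsg.Agent.ClassicalGeometry.Universal.ringChar_ne_two h2),
    Fintype.one_lt_card, Nat.card_eq_fintype_card⟩

theorem closedRow_odd (h2 : (2 : F) ≠ 0) {m : ℕ} (hm : 3 ≤ m) : ClosedRow (Cfsg.POmega F (Cfsg.quadFormOdd m F)) := by
  obtain ⟨hq, hq1, hqc⟩ := facts h2
  have hG := good_odd (F := F) (m := m) (by omega) h2
  have hdim : Module.finrank F (Unit ⊕ (Fin m ⊕ Fin m) → F) = 2 * m + 1 := by
    rw [Module.finrank_fintype_fun_eq_card, Fintype.card_sum, Fintype.card_sum, Fintype.card_fin, Fintype.card_unit]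
    ring
  obtain ⟨m', k, d, h, hn, hd, hk⟩ := exists_model h2 (2 * m + 1) hG.nondeg hdim
  have hk1 : k = 1 := by
    rcases hk with h | h | ⟨c, hc, h, -⟩ <;> omega
  subst hk1
  have hmm : m' = m := by omega
  subst hmm
  rw [← coe_oddForm]
  refine closedRow_of_has hG (by omega) h2 h hd ?_
  rw [card_O, coe_oddForm, Cfsg.Agent.S0286.result rfl (Nat.odd_iff.2 hq) m', hqc]
  exact val_odd hq hq1 m'

theorem closedRow_plus (h2 : (2 : F) ≠ 0) {m : ℕ} (hm : 4 ≤ m) : ClosedRow (Cfsg.POmega F (Cfsg.quadFormPlus m F)) := by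
  obtain ⟨hq, hq1, hqc⟩ := facts h2
  have hG := good_plus (F := F) (m := m) (by omega)
  have hdim : Module.finrank F (Fin m ⊕ Fin m → F) = 2 * m := by
    rw [Module.finrank_fintype_fun_eq_card, Fintype.card_sum, Fintype.card_fin]
    ring
  have hqm : (Fintype.card F ^ m) % 2 = 1 := by
    rw [Nat.pow_mod, hq, one_pow]
    norm_num
  have hqm1 : 1 < Fintype.card F ^ m := Nat.one_lt_pow (by omega) hq1
  obtain ⟨m', k, d, h, hn, hd, hk⟩ := exists_model h2 (2 * m) hG.nondeg hdim
  rw [← coe_plusForm]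
  refine closedRow_of_has hG (by omega) h2 h hd ?_
  rw [card_O, coe_plusForm, Cfsg.Agent.S0287.result rfl m (by omega), hqc]
  rcases hk with rfl | rfl | ⟨c, hc, rfl, hdj⟩
  · have hmm : m' = m := by omega
    subst hmm
    refine val_even_zero hq hq1 (by omega) (n' := Fintype.card F ^ m' + 1) ?_ (by omega)
    rw [mul_comm, two_mul, pow_add]
    have := Nat.sq_sub_sq (Fintype.card F ^ m') 1
    rw [one_pow, pow_two] at this
    exact this.symm
  · omega
  · have hmm : m = m' + 1 := by omega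
    subst hmm
    have h4 : ¬ (Fintype.card F ^ (m' + 1) % 4 = 1) := by
      intro h5
      refine neg_not_mem hG h2 h hc hdj (neg_mem_of_matrix hG ?_)
      rw [coe_plusForm]
      exact (Cfsg.Agent.S0790.result rfl (Nat.odd_iff.2 hq) (m' + 1) (by omega)).2 h5
    exact val_even_two hq hq1 (by omega)

theorem closedRow_minus (h2 : (2 : F) ≠ 0) {m : ℕ} (hm : 4 ≤ m) (a b : F)
    (hab : ∀ z₁ z₂ : F, z₁ ^ 2 + a * z₁ * z₂ + b * z₂ ^ 2 = 0 → z₁ = 0 ∧ z₂ = 0) :
    ClosedRow (Cfsg.POmega F (Cfsg.quadFormMinus (m - 1) F a b)) := by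
  obtain ⟨hq, hq1, hqc⟩ := facts h2
  have hG := good_minus (F := F) (m := m - 1) (by omega) a b hab
  have hdim : Module.finrank F ((Fin (m - 1) ⊕ Fin (m - 1)) ⊕ Fin 2 → F) = 2 * m := by
    rw [Module.finrank_fintype_fun_eq_card, Fintype.card_sum, Fintype.card_sum, Fintype.card_fin, Fintype.card_fin]
    omega
  have hqm : (Fintype.card F ^ m) % 2 = 1 := by
    rw [Nat.pow_mod, hq, one_pow]
    norm_num
  have hqm1 : 1 < Fintype.card F ^ m := Nat.one_lt_pow (by omega) hq1
  obtain ⟨m', k, d, h, hn, hd, hk⟩ := exists_model h2 (2 * m) hG.nondeg hdim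
  rw [← coe_minusForm]
  refine closedRow_of_has hG (by omega) h2 h hd ?_
  rw [card_O, coe_minusForm, Cfsg.Agent.S0288.result rfl m (by omega) a b hab, hqc]
  rcases hk with rfl | rfl | ⟨c, hc, rfl, hdj⟩
  · have hmm : m' = m := by omega
    subst hmm
    refine val_even_zero hq hq1 (by omega) (n' := Fintype.card F ^ m' - 1) ?_ (by omega)
    rw [two_mul, pow_add]
    have := Nat.sq_sub_sq (Fintype.card F ^ m') 1
    rw [one_pow, pow_two] at this
    exact this.symm
  · omega
  · have hmm : m = m' + 1 := by omega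
    subst hmm
    have h4 : ¬ (Fintype.card F ^ (m' + 1) % 4 = 3) := by
      intro h5
      refine neg_not_mem hG h2 h hc hdj (neg_mem_of_matrix hG ?_)
      rw [coe_minusForm]
      exact (Cfsg.Agent.S0791.result rfl (Nat.odd_iff.2 hq) (m' + 1) (by omega) a b hab).2 h5
    exact val_even_two hq hq1 (by omega)

end Rows

/-! ### The families -/

section Fam

universe u

variable {G : Type u} [Group G]

theorem closedRow_isPOmegaOdd (h : Cfsg.IsPOmegaOdd G) : ClosedRow G := by
  obtain ⟨F, iF, iFt, m, hm, hodd, ⟨e⟩⟩ := h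
  have h2 : (2 : F) ≠ 0 := Cfsg.Agent.LieClassical.PomegaCard.odd_card_iff.1 hodd
  exact ClosedRow.congr e.symm (closedRow_odd h2 hm)

end Fam

end Cfsg.Agent.FooteOrth

end
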